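import Groth.Agent.L10.NerveExact
import Mathlib.Algebra.Category.Grp.Adjunctions
import Mathlib.Algebra.Category.Grp.FilteredColimits
import Mathlib.Algebra.Homology.ShortComplex.FunctorEquivalence
import Mathlib.Algebra.Homology.ShortComplex.Ab
import Mathlib.CategoryTheory.Preadditive.Injective.Preserves
import Mathlib.CategoryTheory.Abelian.Injective.Basic

/-!
Čech cochains of a morphism, elementwise; injective presheaves have no higher Čech cohomology.
-/

set_option autoImplicit false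
set_option linter.style.haveILetI false

universe w v u u' v'

open CategoryTheory CategoryTheory.Limits Opposite

namespace Groth.L28.ProEt.Cech

open Groth.L10 (Nerve.N Nerve.δ Nerve.pr Nerve.bs)

variable {C : Type u} [Category.{v} C] [HasFiniteWidePullbacks C] {V U : C} (p : V ⟶ U)

/-- restriction -/
abbrev res (P : Cᵒᵖ ⥤ AddCommGrpCat.{w}) {A B : C} (f : A ⟶ B) (x : P.obj (op B)) : P.obj (op A) :=
  P.map f.op x

theorem res_res (P : Cᵒᵖ ⥤ AddCommGrpCat.{w}) {A B D : C} (f : A ⟶ B) (g : B ⟶ D) (x : P.obj (op D)) :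
    res P f (res P g x) = res P (f ≫ g) x := (ConcreteCategory.congr_hom (P.map_comp g.op f.op) x).symm

/-- the differential -/
noncomputable def d (P : Cᵒᵖ ⥤ AddCommGrpCat.{w}) (n : ℕ) :
    P.obj (op (Nerve.N p n)) →+ P.obj (op (Nerve.N p (n + 1))) :=
  ∑ j : Fin (n + 2), (-1 : ℤ) ^ (j : ℕ) • (P.map (Nerve.δ p j).op).hom

theorem d_apply (P : Cᵒᵖ ⥤ AddCommGrpCat.{w}) (n : ℕ) (x : P.obj (op (Nerve.N p n))) :
    d p P n x = ∑ j : Fin (n + 2), (-1 : ℤ) ^ (j : ℕ) • res P (Nerve.δ p j) x := by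
  simp [d]

/-- no higher Čech cohomology -/
def Acyclic (P : Cᵒᵖ ⥤ AddCommGrpCat.{w}) : Prop :=
  ∀ (n : ℕ) (x : P.obj (op (Nerve.N p (n + 1)))), d p P (n + 1) x = 0 → ∃ y, d p P n y = x

theorem d_natural {P Q : Cᵒᵖ ⥤ AddCommGrpCat.{w}} (φ : P ⟶ Q) (n : ℕ) (x : P.obj (op (Nerve.N p n))) :
    φ.app _ (d p P n x) = d p Q n (φ.app _ x) := by
  simp only [d_apply, map_sum, map_zsmul]
  exact Finset.sum_congr rfl fun j _ => congrArg _ (NatTrans.naturality_apply φ (Nerve.δ p j).op x)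

theorem d_map {V' U' : C} (p' : V' ⟶ U') (P : Cᵒᵖ ⥤ AddCommGrpCat.{w}) (μ : ∀ n, Nerve.N p n ⟶ Nerve.N p' n)
    (hμ : ∀ n (j : Fin (n + 2)), μ (n + 1) ≫ Nerve.δ p' j = Nerve.δ p j ≫ μ n) (n : ℕ)
    (x : P.obj (op (Nerve.N p' n))) : res P (μ (n + 1)) (d p' P n x) = d p P n (res P (μ n) x) := by
  simp only [d_apply, map_sum, map_zsmul]
  exact Finset.sum_congr rfl fun j _ => congrArg _ ((res_res P _ _ x).trans
    ((congrArg (fun f => res P f x) (hμ n j)).trans (res_res P _ _ x).symm))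

theorem acyclic_of_iso {P Q : Cᵒᵖ ⥤ AddCommGrpCat.{w}} (e : P ≅ Q) (h : Acyclic p P) : Acyclic p Q := by
  intro n x hx
  obtain ⟨y, hy⟩ := h n (e.inv.app _ x) (by rw [← d_natural, hx, map_zero])
  refine ⟨e.hom.app _ y, ?_⟩
  rw [← d_natural, hy]
  exact ConcreteCategory.congr_hom (e.inv_hom_id_app _) x

section Free

variable (C)

/-- free presheaf on a representable one -/
noncomputable def fp : C ⥤ Cᵒᵖ ⥤ AddCommGrpCat.{max v w} :=
  uliftYoneda.{w} ⋙ (Functor.whiskeringRight Cᵒᵖ (Type (max v w)) AddCommGrpCat.{max v w}).obj AddCommGrpCat.free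

variable {C}

/-- evaluation at the universal element -/
noncomputable def fpVal {A : C} {P : Cᵒᵖ ⥤ AddCommGrpCat.{max v w}} (φ : (fp.{w} C).obj A ⟶ P) : P.obj (op A) :=
  φ.app (op A) (FreeAbelianGroup.of (ULift.up (𝟙 A)))

/-- a map out of a free presheaf -/
noncomputable def fpDesc {A : C} (P : Cᵒᵖ ⥤ AddCommGrpCat.{max v w}) (x : P.obj (op A)) : (fp.{w} C).obj A ⟶ P where
  app W := AddCommGrpCat.ofHom (FreeAbelianGroup.lift fun f : ULift.{w} (W.unop ⟶ A) => P.map f.down.op x)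
  naturality {W W'} g := AddCommGrpCat.hom_ext (FreeAbelianGroup.lift_ext _ _ fun f =>
    (FreeAbelianGroup.lift_apply_of _ _).trans (by
      refine Eq.trans ?_ (congrArg (P.map g) (FreeAbelianGroup.lift_apply_of _ f).symm)
      exact ConcreteCategory.congr_hom (P.map_comp f.down.op g) x))

theorem fp_hom_ext {A : C} {P : Cᵒᵖ ⥤ AddCommGrpCat.{max v w}} {φ ψ : (fp.{w} C).obj A ⟶ P}
    (h : fpVal φ = fpVal ψ) : φ = ψ := by
  refine NatTrans.ext (funext fun W => AddCommGrpCat.hom_ext (FreeAbelianGroup.lift_ext _ _ fun f => ?_))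
  have key : ∀ χ : (fp.{w} C).obj A ⟶ P, χ.app W (FreeAbelianGroup.of f) = P.map f.down.op (fpVal χ) := fun χ => by
    refine Eq.trans ?_ (NatTrans.naturality_apply χ f.down.op (FreeAbelianGroup.of (ULift.up (𝟙 A))))
    refine congrArg (χ.app W) (Eq.symm ?_)
    exact (FreeAbelianGroup.lift_apply_of _ _).trans (congrArg FreeAbelianGroup.of (ULift.ext _ _ (Category.comp_id _)))
  exact (key φ).trans ((congrArg (P.map f.down.op) h).trans (key ψ).symm)

theorem fpVal_desc {A : C} (P : Cᵒᵖ ⥤ AddCommGrpCat.{max v w}) (x : P.obj (op A)) : fpVal (fpDesc P x) = x :=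
  (FreeAbelianGroup.lift_apply_of _ _).trans (ConcreteCategory.congr_hom (P.map_id _) x)

theorem fpVal_map {A B : C} (g : A ⟶ B) {P : Cᵒᵖ ⥤ AddCommGrpCat.{max v w}} (φ : (fp.{w} C).obj B ⟶ P) :
    fpVal ((fp.{w} C).map g ≫ φ) = res P g (fpVal φ) := by
  refine Eq.trans ?_ (NatTrans.naturality_apply φ g.op (FreeAbelianGroup.of (ULift.up (𝟙 B))))
  refine congrArg (φ.app (op A)) ?_
  refine (FreeAbelianGroup.lift_apply_of _ _).trans (Eq.trans ?_ (FreeAbelianGroup.lift_apply_of _ _).symm)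
  exact congrArg FreeAbelianGroup.of (ULift.ext _ _ ((Category.id_comp g).trans (Category.comp_id g).symm))

/-- evaluation of natural transformations at an element -/
def evalHom {F G : Cᵒᵖ ⥤ AddCommGrpCat.{max v w}} (W : Cᵒᵖ) (c : F.obj W) : (F ⟶ G) →+ G.obj W :=
  AddMonoidHom.mk' (fun φ => φ.app W c) fun _ _ => rfl

/-- the differential of the free complex -/
noncomputable def dF (n : ℕ) : (fp.{w} C).obj (Nerve.N p (n + 1)) ⟶ (fp.{w} C).obj (Nerve.N p n) :=
  ∑ j : Fin (n + 2), (-1 : ℤ) ^ (j : ℕ) • (fp.{w} C).map (Nerve.δ p j)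

theorem fpVal_dF {P : Cᵒᵖ ⥤ AddCommGrpCat.{max v w}} (n : ℕ) (φ : (fp.{w} C).obj (Nerve.N p n) ⟶ P) :
    fpVal (dF.{w} p n ≫ φ) = d p P n (fpVal φ) := by
  rw [d_apply, dF, Preadditive.sum_comp]
  show evalHom _ _ (∑ j : Fin (n + 2), ((-1 : ℤ) ^ (j : ℕ) • (fp.{w} C).map (Nerve.δ p j)) ≫ φ) = _
  rw [map_sum]
  refine Finset.sum_congr rfl fun j _ => ?_
  rw [Preadditive.zsmul_comp, map_zsmul]
  exact congrArg _ (fpVal_map (Nerve.δ p j) φ)

theorem dF_eq_dQ (n : ℕ) (W : Cᵒᵖ) (c : ((fp.{w} C).obj (Nerve.N p (n + 1))).obj W) :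
    FreeAbelianGroup.map ULift.down ((dF.{w} p n).app W c) =
      Groth.L10.Nerve.dQ p W.unop n (FreeAbelianGroup.map ULift.down c) := by
  suffices h : (FreeAbelianGroup.map (ULift.down : ULift.{w} (W.unop ⟶ Nerve.N p n) → _)).comp ((dF.{w} p n).app W).hom =
      (Groth.L10.Nerve.dQ p W.unop n).comp
        (FreeAbelianGroup.map (ULift.down : ULift.{w} (W.unop ⟶ Nerve.N p (n + 1)) → _)) from
    DFunLike.congr_fun h c
  refine FreeAbelianGroup.lift_ext _ _ fun f => ?_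
  refine Eq.trans ?_ (Groth.L10.Nerve.dQ_of p W.unop n f.down).symm
  show FreeAbelianGroup.map ULift.down (evalHom W (FreeAbelianGroup.of f)
    (∑ j : Fin (n + 2), (-1 : ℤ) ^ (j : ℕ) • (fp.{w} C).map (Nerve.δ p j))) = _
  refine (congrArg _ (map_sum _ _ _)).trans ((map_sum (FreeAbelianGroup.map (ULift.down : ULift.{w} (W.unop ⟶ Nerve.N p n) → _)) _ _).trans ?_)
  refine Finset.sum_congr rfl fun j _ => ?_
  refine (congrArg _ (map_zsmul _ _ _)).trans ((map_zsmul (FreeAbelianGroup.map (ULift.down : ULift.{w} (W.unop ⟶ Nerve.N p n) → _)) _ _).trans ?_)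
  refine congrArg _ ?_
  exact (congrArg _ (FreeAbelianGroup.lift_apply_of _ _)).trans (FreeAbelianGroup.map_of_apply _)

theorem injective_down {α : Type v} : Function.Injective (FreeAbelianGroup.map (ULift.down : ULift.{w} α → α)) :=
  Function.LeftInverse.injective (g := FreeAbelianGroup.map ULift.up) fun c => by
    rw [← FreeAbelianGroup.map_comp_apply]
    exact FreeAbelianGroup.map_id_apply c

theorem surjective_down {α : Type v} : Function.Surjective (FreeAbelianGroup.map (ULift.down : ULift.{w} α → α)) :=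
  fun c => ⟨FreeAbelianGroup.map ULift.up c, by
    rw [← FreeAbelianGroup.map_comp_apply]; exact FreeAbelianGroup.map_id_apply c⟩

theorem exact_dF (n : ℕ) :
    ∃ h, (ShortComplex.mk (dF.{w} p (n + 1)) (dF.{w} p n) h).Exact := by
  have h : dF.{w} p (n + 1) ≫ dF.{w} p n = 0 :=
    AlgebraicTopology.AlternatingFaceMapComplex.d_squared ((Arrow.mk p).cechNerve ⋙ fp.{w} C) n
  refine ⟨h, Groth.L10.Nerve.exact_of_eval fun W => (ShortComplex.ab_exact_iff _).2 fun c hc => ?_⟩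
  obtain ⟨e, he⟩ := Groth.L10.Nerve.exact_dQ p W.unop n (FreeAbelianGroup.map ULift.down c) (by
    rw [← dF_eq_dQ]
    exact (congrArg _ hc).trans (map_zero _))
  obtain ⟨e, rfl⟩ := surjective_down.{w} e
  exact ⟨e, injective_down ((dF_eq_dQ p (n + 1) W e).trans he)⟩

/-- injective presheaves have no higher Čech cohomology -/
theorem acyclic_of_injective (P : Cᵒᵖ ⥤ AddCommGrpCat.{max v w}) [Injective P] : Acyclic p P := by
  intro n x hx
  obtain ⟨h, he⟩ := exact_dF.{w} p n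
  let φ : (fp.{w} C).obj (Nerve.N p (n + 1)) ⟶ P := fpDesc P x
  have hφ : dF.{w} p (n + 1) ≫ φ = 0 := fp_hom_ext (by
    rw [fpVal_dF, fpVal_desc, hx]
    rfl)
  refine ⟨fpVal (he.descToInjective φ hφ), ?_⟩
  rw [← fpVal_dF, he.comp_descToInjective]
  exact fpVal_desc P x

end Free

end Groth.L28.ProEt.Cech
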