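import Groth.Agent.L28.ProEt.Cech.GoodCover

/-!
Direct images along quasi-compact quasi-separated morphisms commute with `ε⁻¹`.
-/

set_option autoImplicit false
set_option linter.style.haveILetI false

universe u

open CategoryTheory CategoryTheory.Limits AlgebraicGeometry Opposite

set_option backward.isDefEq.respectTransparency.types false

namespace Groth.L28.ProEt.Cech

variable {X Y : Scheme.{u}} (f : X ⟶ Y) [ProEtS.PCont f] [ProEtS.EpsCont X] [ProEtS.EpsCont Y]

/-- `ε_*` commutes with direct images -/
noncomputable def pushEps : ProEtS.epsPush X ⋙ EtCoh.push f ≅ ProEtS.pushP f ⋙ ProEtS.epsPush Y :=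
  NatIso.ofComponents (fun G => (fullyFaithfulSheafToPresheaf _ _).preimageIso
      (NatIso.ofComponents (fun U => Iso.refl (G.obj.obj (op ((ProEtS.eps X).obj ((EtCoh.bc f).obj U.unop)))))
        fun {U V} g => (Category.comp_id _).trans (Eq.trans
          (congrArg (fun k => G.obj.map (Quiver.Hom.op k))
            (show (ProEtS.eps X).map ((EtCoh.bc f).map g.unop) = (ProEtS.bcP f).map ((ProEtS.eps Y).map g.unop) from
              MorphismProperty.Over.Hom.ext rfl))
          (Category.id_comp _).symm)))
    fun {G H} φ => ObjectProperty.hom_ext _ (NatTrans.ext (funext fun U =>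
      (Category.comp_id _).trans (Category.id_comp _).symm))

/-- the unit pushed forward -/
noncomputable def bcUnit : EtCoh.push f ⟶ (ProEtS.epsPull X ⋙ ProEtS.pushP f) ⋙ ProEtS.epsPush Y where
  app F := (EtCoh.push f).map ((ProEtS.epsAdj X).unit.app F) ≫ (pushEps f).hom.app ((ProEtS.epsPull X).obj F)
  naturality {F G} φ := by
    refine (Category.assoc _ _ _).symm.trans ?_
    refine (congrArg (fun k => k ≫ _) (((EtCoh.push f).map_comp _ _).symm.trans
      ((congrArg (EtCoh.push f).map ((ProEtS.epsAdj X).unit.naturality φ)).trans ((EtCoh.push f).map_comp _ _)))).trans ?_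
    refine (Category.assoc _ _ _).trans (Eq.trans ?_ (Category.assoc _ _ _).symm)
    exact congrArg _ ((pushEps f).hom.naturality ((ProEtS.epsPull X).map φ))

/-- the comparison map -/
noncomputable def theta : EtCoh.push f ⋙ ProEtS.epsPull Y ⟶ ProEtS.epsPull X ⋙ ProEtS.pushP f where
  app F := ((ProEtS.epsAdj Y).homEquiv _ _).symm ((bcUnit f).app F)
  naturality {F G} φ := by
    refine ((ProEtS.epsAdj Y).homEquiv_naturality_left_symm _ _).symm.trans
      (Eq.trans ?_ ((ProEtS.epsAdj Y).homEquiv_naturality_right_symm _ _))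
    exact congrArg _ ((bcUnit f).naturality φ)

theorem theta_unit (F : EtCoh.Ab X) (U : Y.Etale) (s : F.obj.obj (op ((EtCoh.bc f).obj U))) :
    ((theta f).app F).hom.app (op ((ProEtS.eps Y).obj U))
        (((ProEtS.epsAdj Y).unit.app ((EtCoh.push f).obj F)).hom.app (op U) s) =
      ((ProEtS.epsAdj X).unit.app F).hom.app (op ((EtCoh.bc f).obj U)) s := by
  have h : (ProEtS.epsAdj Y).homEquiv _ _ ((theta f).app F) = (bcUnit f).app F := Equiv.apply_symm_apply _ _
  rw [Adjunction.homEquiv_unit] at h
  exact ConcreteCategory.congr_hom (congrArg (fun k => k.hom.app (op U)) h) s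

section Good

variable [QuasiCompact f] [QuasiSeparated f] (F : EtCoh.Ab X)

theorem bijective_theta {W : Y.ProEt} (hW : IsGood W) :
    Function.Bijective (((theta f).app F).hom.app (op W)) := by
  obtain ⟨U₀, _, r, hr⟩ := hW
  obtain ⟨I, _, _, D, a, π, haff, hπ, ⟨hl⟩⟩ := exists_pres hr
  obtain ⟨hl'⟩ := nonempty_isLimit_bcCone f π hl
  have hc : ∀ i, CompactSpace (D.obj i).left := fun i => haveI := haff i; inferInstance
  have hq : ∀ i, QuasiSeparatedSpace (D.obj i).left := fun i => haveI := haff i; inferInstance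
  have ha : ∀ (i j : I) (g : i ⟶ j), IsAffineHom (D.map g).left := fun i j g => by
    haveI := haff i
    haveI := haff j
    infer_instance
  have hc' : ∀ i, CompactSpace ((D ⋙ EtCoh.bc f).obj i).left := fun i => haveI := haff i; stage_compact f (D.obj i)
  have hq' : ∀ i, QuasiSeparatedSpace ((D ⋙ EtCoh.bc f).obj i).left :=
    fun i => haveI := haff i; stage_quasiSeparated f (D.obj i)
  have ha' := stage_affine_transitions f haff (D := D)
  let P := (EtCoh.push f).obj F
  let E := (ProEtS.epsPull X).obj F
  have hπ' : ∀ i, (bcCone f π).app i = (ProEtS.bcP f).map (π.app i) :=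
    fun i => MorphismProperty.Over.Hom.ext (bcCone_left f π i)
  -- the map on a section coming from a stage
  have key : ∀ (i : I) (s : F.obj.obj (op ((EtCoh.bc f).obj (D.obj i)))),
      ((theta f).app F).hom.app (op W) (rs ((ProEtS.epsPull Y).obj P) (π.app i)
          (((ProEtS.epsAdj Y).unit.app P).hom.app (op (D.obj i)) s)) =
        rs E ((bcCone f π).app i) (((ProEtS.epsAdj X).unit.app F).hom.app (op ((EtCoh.bc f).obj (D.obj i))) s) := by
    intro i s
    refine (rs_natural ((theta f).app F) (π.app i) _).trans ?_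
    refine (congrArg (rs ((ProEtS.pushP f).obj E) (π.app i)) (theta_unit f F (D.obj i) s)).trans ?_
    rw [hπ']
    rfl
  haveI := isIso_unit_ab X
  haveI := isIso_unit_ab Y
  refine ⟨(injective_iff_map_eq_zero _).2 fun w hw => ?_, fun z => ?_⟩
  · obtain ⟨i, y, rfl⟩ := exists_stage_qcqs (F := P) π hl hc hq ha w
    obtain ⟨s, rfl⟩ := (ConcreteCategory.bijective_of_isIso (((ProEtS.epsAdj Y).unit.app P).hom.app (op (D.obj i)))).2 y
    obtain ⟨j, g, hg⟩ := exists_zero_qcqs (F := F) (bcCone f π) hl' hc' hq' ha' _ ((key i s).symm.trans hw)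
    have h0 : F.obj.map ((EtCoh.bc f).map (D.map g)).op s = 0 := by
      refine (ConcreteCategory.bijective_of_isIso
        (((ProEtS.epsAdj X).unit.app F).hom.app (op ((EtCoh.bc f).obj (D.obj j))))).1 ?_
      refine ((NatTrans.naturality_apply ((ProEtS.epsAdj X).unit.app F).hom _ s).trans hg).trans ?_
      exact (map_zero _).symm
    have h1 : π.app i = π.app j ≫ (ProEtS.eps Y).map (D.map g) := (Category.id_comp _).symm.trans (π.naturality g)
    rw [h1]
    refine (rs_comp _ _ _ _).trans ?_
    refine (congrArg (rs ((ProEtS.epsPull Y).obj P) (π.app j))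
      ((NatTrans.naturality_apply ((ProEtS.epsAdj Y).unit.app P).hom (D.map g).op s).symm.trans
        (congrArg _ h0))).trans ?_
    exact (congrArg _ (map_zero (((ProEtS.epsAdj Y).unit.app P).hom.app (op (D.obj j))).hom)).trans
      (map_zero (((ProEtS.epsPull Y).obj P).obj.map (π.app j).op).hom)
  · obtain ⟨i, y, rfl⟩ := exists_stage_qcqs (F := F) (bcCone f π) hl' hc' hq' ha' z
    obtain ⟨s, rfl⟩ := (ConcreteCategory.bijective_of_isIso
      (((ProEtS.epsAdj X).unit.app F).hom.app (op ((EtCoh.bc f).obj (D.obj i))))).2 y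
    exact ⟨_, key i s⟩

theorem isIso_theta_app : IsIso ((theta f).app F) :=
  isIso_of_good _ fun _ hW => bijective_theta f F hW

/-- `ε⁻¹` commutes with direct images -/
noncomputable def thetaIso : EtCoh.push f ⋙ ProEtS.epsPull Y ≅ ProEtS.epsPull X ⋙ ProEtS.pushP f :=
  haveI : ∀ F, IsIso ((theta f).app F) := isIso_theta_app f
  haveI := NatIso.isIso_of_isIso_app (theta f)
  asIso (theta f)

end Good

end Groth.L28.ProEt.Cech
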