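import Groth.Agent.L28.ProEt.Cech.BaseChange
import Groth.Agent.L28.ProEt.PushExact
import Groth.Agent.L28.ProEt.QuotSections

/-!
Direct images of sheaves of modules along quasi-compact quasi-separated morphisms.
-/

set_option autoImplicit false
set_option linter.style.haveILetI false

universe u

open CategoryTheory CategoryTheory.Limits AlgebraicGeometry Opposite

set_option backward.isDefEq.respectTransparency.types false

namespace Groth.L28.ProEt.Cech

variable (Λ : Type (u + 1)) [CommRing Λ] {X Y : Scheme.{u}} (f : X ⟶ Y) [ProEtS.PCont f]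

/-- direct image of modules on the pro-étale site -/
noncomputable abbrev pushPMod : EtModW.ModP Λ X ⥤ EtModW.ModP Λ Y :=
  (ProEtS.bcP f).sheafPushforwardContinuous (ModuleCat.{u + 1} Λ) (Scheme.ProEt.topology Y) (Scheme.ProEt.topology X)

variable [ProEtS.EpsCont X] [ProEtS.EpsCont Y]

/-- `ε_*` commutes with direct images -/
noncomputable def pushEpsMod : epsPushMod Λ X ⋙ EtModW.push Λ f ≅ pushPMod Λ f ⋙ epsPushMod Λ Y :=
  NatIso.ofComponents (fun G => (fullyFaithfulSheafToPresheaf _ _).preimageIso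
      (NatIso.ofComponents (fun U => Iso.refl (G.obj.obj (op ((ProEtS.eps X).obj ((EtCoh.bc f).obj U.unop)))))
        fun {_ _} g => (Category.comp_id _).trans (Eq.trans
          (congrArg (fun k => G.obj.map (Quiver.Hom.op k))
            (show (ProEtS.eps X).map ((EtCoh.bc f).map g.unop) = (ProEtS.bcP f).map ((ProEtS.eps Y).map g.unop) from
              MorphismProperty.Over.Hom.ext rfl))
          (Category.id_comp _).symm)))
    fun {_ _} _ => ObjectProperty.hom_ext _ (NatTrans.ext (funext fun _ =>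
      (Category.comp_id _).trans (Category.id_comp _).symm))

/-- the comparison map for modules -/
noncomputable def thetaMod (F : EtModW.Mod Λ X) :
    (EtModW.epsPullMod Λ Y).obj ((EtModW.push Λ f).obj F) ⟶ (pushPMod Λ f).obj ((EtModW.epsPullMod Λ X).obj F) :=
  ((epsAdjMod Λ Y).homEquiv _ _).symm
    ((EtModW.push Λ f).map ((epsAdjMod Λ X).unit.app F) ≫ (pushEpsMod Λ f).hom.app ((EtModW.epsPullMod Λ X).obj F))

theorem thetaMod_unit (F : EtModW.Mod Λ X) (U : Y.Etale) (s : F.obj.obj (op ((EtCoh.bc f).obj U))) :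
    (thetaMod Λ f F).hom.app (op ((ProEtS.eps Y).obj U))
        (((epsAdjMod Λ Y).unit.app ((EtModW.push Λ f).obj F)).hom.app (op U) s) =
      ((epsAdjMod Λ X).unit.app F).hom.app (op ((EtCoh.bc f).obj U)) s := by
  have h : (epsAdjMod Λ Y).homEquiv _ _ (thetaMod Λ f F) = _ := Equiv.apply_symm_apply _ _
  rw [Adjunction.homEquiv_unit] at h
  exact ConcreteCategory.congr_hom (congrArg (fun k => k.hom.app (op U)) h) s

theorem isIso_thetaMod [QuasiCompact f] [QuasiSeparated f] (F : EtModW.Mod Λ X) : IsIso (thetaMod Λ f F) := by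
  let F' := (forgetSh Λ X.smallEtaleTopology).obj F
  let a : (ProEtS.epsPull Y).obj ((EtCoh.push f).obj F') ⟶
      (forgetSh Λ (Scheme.ProEt.topology Y)).obj ((pushPMod Λ f).obj ((EtModW.epsPullMod Λ X).obj F)) :=
    (Groth.L28.ProEt.theta Λ Y).hom.app ((EtModW.push Λ f).obj F) ≫
      (forgetSh Λ (Scheme.ProEt.topology Y)).map (thetaMod Λ f F)
  let b : (ProEtS.epsPull Y).obj ((EtCoh.push f).obj F') ⟶
      (ProEtS.pushP f).obj ((forgetSh Λ (Scheme.ProEt.topology X)).obj ((EtModW.epsPullMod Λ X).obj F)) :=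
    (theta f).app F' ≫ (ProEtS.pushP f).map ((Groth.L28.ProEt.theta Λ X).hom.app F)
  have e : a = b := by
    refine ((ProEtS.epsAdj Y).homEquiv _ _).injective (Sheaf.hom_ext (NatTrans.ext (funext fun U =>
      ConcreteCategory.hom_ext _ _ fun s => ?_)))
    show a.hom.app (op ((ProEtS.eps Y).obj U.unop)) (((ProEtS.epsAdj Y).unit.app _).hom.app U s) =
      b.hom.app (op ((ProEtS.eps Y).obj U.unop)) (((ProEtS.epsAdj Y).unit.app _).hom.app U s)
    have hY := ConcreteCategory.congr_hom
      (congrArg (fun k => k.hom.app U) (forget_map_unit Λ Y ((EtModW.push Λ f).obj F))) s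
    have hX := ConcreteCategory.congr_hom (congrArg (fun k => k.hom.app (op ((EtCoh.bc f).obj U.unop)))
      (forget_map_unit Λ X F)) s
    refine (congrArg ((thetaMod Λ f F).hom.app (op ((ProEtS.eps Y).obj U.unop))) hY.symm).trans ?_
    refine (thetaMod_unit Λ f F U.unop s).trans (hX.trans ?_)
    exact (congrArg (((Groth.L28.ProEt.theta Λ X).hom.app F).hom.app _) (theta_unit f F' U.unop s)).symm
  haveI := isIso_theta_app f F'
  haveI : IsIso b := inferInstanceAs (IsIso ((theta f).app F' ≫ _))
  haveI ha : IsIso a := e ▸ ‹IsIso b›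
  haveI : IsIso ((forgetSh Λ (Scheme.ProEt.topology Y)).map (thetaMod Λ f F)) :=
    @IsIso.of_isIso_comp_left _ _ _ _ _ ((Groth.L28.ProEt.theta Λ Y).hom.app ((EtModW.push Λ f).obj F))
      ((forgetSh Λ (Scheme.ProEt.topology Y)).map (thetaMod Λ f F)) inferInstance ha
  exact isIso_of_reflects_iso _ (forgetSh Λ (Scheme.ProEt.topology Y))

end Groth.L28.ProEt.Cech
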