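import Groth.Agent.L28.ProEt.Cech.Good
import Groth.Agent.L28.ProEt.Pull
import Mathlib.Algebra.Homology.HomologicalComplex
import Mathlib.Algebra.Homology.ShortComplex.HomologicalComplex

/-!
Cartan's criterion on the pro-étale site for inverse images of injective étale sheaves.
-/

set_option autoImplicit false
set_option linter.style.haveILetI false

universe u

open CategoryTheory CategoryTheory.Limits AlgebraicGeometry Opposite

set_option backward.isDefEq.respectTransparency.types false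

namespace Groth.L28.ProEt.Cech

open Groth.L10 (Nerve.N Nerve.δ Nerve.pr Nerve.bs Nerve.pr_w Nerve.δ_pr Nerve.δ_bs)

theorem d_d {C : Type*} [Category.{u} C] [HasFiniteWidePullbacks C] {V U : C} (p : V ⟶ U)
    (P : Cᵒᵖ ⥤ AddCommGrpCat.{u + 1}) (n : ℕ) (x : P.obj (op (Nerve.N p n))) :
    d p P (n + 1) (d p P n x) = 0 := by
  obtain ⟨h, -⟩ := exact_dF.{u + 1} p n
  rw [← fpVal_desc.{u + 1} P x, ← fpVal_dF, ← fpVal_dF, ← Category.assoc, h, zero_comp]
  rfl

theorem isIso_pr_zero {C : Type*} [Category C] [HasFiniteWidePullbacks C] {V U : C} (p : V ⟶ U) :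
    IsIso (Nerve.pr p (0 : Fin 1)) :=
  ⟨WidePullback.lift p (fun _ => 𝟙 _) (fun _ => Category.id_comp _), Groth.L10.Nerve.hom_ext p fun i => by
    obtain rfl : i = 0 := Subsingleton.elim (α := Fin 1) i 0
    rw [Category.assoc, WidePullback.lift_π, Category.id_comp, Category.comp_id], WidePullback.lift_π _ _ _ _ _⟩

variable {X : Scheme.{u}}

instance preservesWidePullback_forget (n : ℕ) :
    PreservesLimitsOfShape (WidePullbackShape (Fin n)) (Scheme.ProEt.forget X ⋙ Over.forget X) := inferInstance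

instance preservesWidePullback_eps (n : ℕ) : PreservesLimitsOfShape (WidePullbackShape (Fin n)) (ProEtS.eps X) := by
  haveI : PreservesLimitsOfShape (WidePullbackShape (Fin n)) (ProEtS.eps X ⋙ Scheme.ProEt.forget X) :=
    inferInstanceAs (PreservesLimitsOfShape (WidePullbackShape (Fin n)) (Scheme.Etale.forget X))
  exact preservesLimitsOfShape_of_reflects_of_preserves (ProEtS.eps X) (Scheme.ProEt.forget X)

section Good

variable {U₀ : X.Etale} [IsAffine U₀.left] {V U : X.ProEt} {rV : V ⟶ (ProEtS.eps X).obj U₀}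
  {rU : U ⟶ (ProEtS.eps X).obj U₀}

omit [IsAffine U₀.left] in
theorem good_of_iso {W W' : X.ProEt} {r : W ⟶ (ProEtS.eps X).obj U₀} (h : Good r) (e : W' ≅ W) :
    Good (e.hom ≫ r) := by
  haveI := h.affine
  haveI : IsIso e.hom.left := inferInstanceAs (IsIso ((Scheme.ProEt.forget X ⋙ Over.forget X).map e.hom))
  haveI := IsAffine.of_isIso e.hom.left
  refine ⟨inferInstance, ?_⟩
  rw [appTop_comp]
  exact indE_comp h.indE (indE_appTop_of_iso _)

theorem good_N {p : V ⟶ U} (hV : Good rV) (hU : Good rU) (hp : p ≫ rU = rV) (n : ℕ) :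
    Good (Nerve.bs p n ≫ rU) := by
  induction n with
  | zero =>
    haveI := isIso_pr_zero p
    have h := good_of_iso hV (asIso (Nerve.pr p (0 : Fin 1)))
    rwa [asIso_hom, ← hp, ← Category.assoc, Nerve.pr_w] at h
  | succ n ih =>
    let a : Nerve.N p (n + 1) ⟶ pullback (Nerve.bs p n) p :=
      pullback.lift (Nerve.δ p (Fin.last (n + 1))) (Nerve.pr p (Fin.last (n + 1))) (by rw [Nerve.δ_bs, Nerve.pr_w])
    let b : pullback (Nerve.bs p n) p ⟶ Nerve.N p (n + 1) :=
      WidePullback.lift (pullback.fst _ _ ≫ Nerve.bs p n)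
        (Fin.lastCases (pullback.snd _ _) fun k => pullback.fst _ _ ≫ Nerve.pr p k) fun k => by
          induction k using Fin.lastCases with
          | last => rw [Fin.lastCases_last]; exact pullback.condition.symm
          | cast k => rw [Fin.lastCases_castSucc, Category.assoc]; exact congrArg _ (Nerve.pr_w p k)
    have hb : ∀ k, b ≫ Nerve.pr p k =
        Fin.lastCases (motive := fun _ => pullback (Nerve.bs p n) p ⟶ V) (pullback.snd _ _)
          (fun k => pullback.fst _ _ ≫ Nerve.pr p k) k := fun k => WidePullback.lift_π _ _ _ _ _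
    let e : Nerve.N p (n + 1) ≅ pullback (Nerve.bs p n) p :=
      { hom := a
        inv := b
        hom_inv_id := Groth.L10.Nerve.hom_ext p fun k => by
          rw [Category.assoc, hb, Category.id_comp]
          induction k using Fin.lastCases with
          | last => rw [Fin.lastCases_last, pullback.lift_snd]
          | cast k => rw [Fin.lastCases_castSucc, pullback.lift_fst_assoc, Nerve.δ_pr, Fin.succAbove_last]
        inv_hom_id := pullback.hom_ext
          (Groth.L10.Nerve.hom_ext p fun k => by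
            simp only [a, Category.assoc, pullback.lift_fst_assoc, Category.id_comp]
            rw [Nerve.δ_pr, Fin.succAbove_last, hb, Fin.lastCases_castSucc])
          (by rw [Category.assoc, pullback.lift_snd, hb, Fin.lastCases_last, Category.id_comp]) }
    have h := good_of_iso (good_pullback (a := Nerve.bs p n) (p := p) ih hV hU rfl hp) e
    rwa [← Category.assoc, pullback.lift_fst, ← Category.assoc, Nerve.δ_bs] at h

theorem affine_N {p : V ⟶ U} (hV : Good rV) (hU : Good rU) (hp : p ≫ rU = rV) (n : ℕ) :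
    IsAffine (Nerve.N p n).left := (good_N hV hU hp n).affine

end Good

theorem good_map_etale {U₀ E : X.Etale} [IsAffine U₀.left] [IsAffine E.left] (a : E ⟶ U₀) :
    Good ((ProEtS.eps X).map a) := by
  haveI : IsAffine ((ProEtS.eps X).obj E).left := ‹IsAffine E.left›
  haveI : IsAffine ((ProEtS.eps X).obj U₀).left := ‹IsAffine U₀.left›
  haveI : AlgebraicGeometry.Etale E.hom := E.prop
  haveI : AlgebraicGeometry.Etale U₀.hom := U₀.prop
  haveI : AlgebraicGeometry.Etale ((ProEtS.eps X).map a).left := by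
    haveI : AlgebraicGeometry.Etale (a.left ≫ U₀.hom) := by rw [MorphismProperty.Over.w a]; exact E.prop
    exact AlgebraicGeometry.Etale.of_comp a.left U₀.hom
  exact ⟨inferInstance, indE_of_etale _⟩

/-- Čech acyclic for all maps of good objects -/
def Acyc (A : ProEtS.AbP X) : Prop :=
  ∀ (U₀ : X.Etale) [IsAffine U₀.left] (V U : X.ProEt) (rV : V ⟶ (ProEtS.eps X).obj U₀)
    (rU : U ⟶ (ProEtS.eps X).obj U₀) (p : V ⟶ U), Good rV → Good rU → p ≫ rU = rV → Acyclic p A.obj

theorem acyc_of_injective (A : ProEtS.AbP X) [Injective A] : Acyc A := by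
  intro U₀ _ V U rV rU p _ _ _
  haveI : Injective A.obj := Injective.injective_of_adjoint (sheafificationAdjunction _ AddCommGrpCat.{u + 1}) A
  exact acyclic_of_injective.{u + 1} p A.obj

section Pullback

variable [ProEtS.EpsCont X] {A : ProEtS.AbP X} {F : EtCoh.Ab X} (e : (ProEtS.epsPull X).obj F ≅ A)
  {I : Type u} [SmallCategory I] [IsCofiltered I] {DV DU : I ⥤ X.ProEt} (q : DV ⟶ DU)
  (cV : Cone DV) (cU : Cone DU) (p : cV.pt ⟶ cU.pt) (hp : ∀ i, cV.π.app i ≫ q.app i = p ≫ cU.π.app i)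

include e hp in
theorem acyclic_of_limit (hN : ∀ (n : ℕ) (i : I), IsAffine (Nerve.N (q.app i) n).left)
    (hV : IsLimit ((Scheme.ProEt.forget X ⋙ Over.forget X).mapCone cV))
    (hU : IsLimit ((Scheme.ProEt.forget X ⋙ Over.forget X).mapCone cU))
    (h : ∀ i, Acyclic (q.app i) A.obj) : Acyclic p A.obj := by
  have hl := fun n => (nonempty_isLimit_coneN q cV cU p hp (Scheme.ProEt.forget X ⋙ Over.forget X) hV hU n).some
  exact acyclic_of_stages q cV cU p hp A.obj
    (fun n x => exists_stage e (hN n) (coneN q cV cU p hp n) (hl n) x)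
    (fun n _ y hy => exists_zero e (hN n) (coneN q cV cU p hp n) (hl n) y hy) h

end Pullback

theorem acyc_epsPull [ProEtS.EpsCont X] (I : EtCoh.Ab X) [Injective I] : Acyc ((ProEtS.epsPull X).obj I) := by
  haveI := isIso_unit_ab X
  haveI : Injective I.obj := Injective.injective_of_adjoint (sheafificationAdjunction _ AddCommGrpCat.{u + 1}) I
  intro U₀ _ V U rV rU p hV hU hp
  haveI := hV.affine
  -- reduce to an étale target
  suffices h : ∀ (E : X.Etale) [IsAffine E.left] (rV' : V ⟶ (ProEtS.eps X).obj E), Good rV' →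
      Acyclic rV' ((ProEtS.epsPull X).obj I).obj by
    obtain ⟨J, _, _, D, a, π, haff, hπ, ⟨hlim⟩⟩ := exists_pres hU
    let q : (Functor.const J).obj V ⟶ D ⋙ ProEtS.eps X :=
      { app := fun i => p ≫ π.app i
        naturality := fun i j f => (Category.id_comp _).trans (by
          refine Eq.trans ?_ (Category.assoc _ _ _).symm
          exact congrArg (fun k => p ≫ k) ((Category.id_comp _).symm.trans (π.naturality f))) }
    haveI : IsConnected J := IsCofiltered.isConnected J
    haveI : ∀ i, IsAffine (((Functor.const J).obj U₀).obj i).left := fun _ => ‹IsAffine U₀.left›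
    have hg : ∀ i, Good (p ≫ π.app i) := fun i => by
      haveI := haff i
      refine good_of_etale (a.app i) ?_
      rwa [Category.assoc, hπ, hp]
    have hgi : ∀ i, Good ((ProEtS.eps X).map (a.app i : D.obj i ⟶ U₀)) := fun i => by
      haveI := haff i
      exact good_map_etale _
    let cV : Cone ((Functor.const J).obj V) := constCone J V
    refine acyclic_of_limit (Iso.refl _) q cV (Cone.mk U π) p (fun i => Category.id_comp _) (fun n i => ?_) ?_ hlim
      fun i => ?_
    · exact affine_N (rV := rV) (rU := (ProEtS.eps X).map (a.app i)) (p := p ≫ π.app i) hV (hgi i)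
        (by rw [Category.assoc, hπ, hp]) n
    · exact IsLimit.ofIsoLimit (isLimitConstCone J V.left) (Cone.ext (Iso.refl _) fun j => by
        show 𝟙 _ = 𝟙 _ ≫ _
        rw [Category.id_comp]; rfl)
    · haveI := haff i
      exact h (D.obj i) (p ≫ π.app i) (hg i)
  intro E _ r hr
  obtain ⟨J, _, _, D, a, π, haff, hπ, ⟨hlim⟩⟩ := exists_pres hr
  haveI : IsConnected J := IsCofiltered.isConnected J
  haveI : ∀ i, IsAffine (((Functor.const J).obj E).obj i).left := fun _ => ‹IsAffine E.left›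
  let q : D ⋙ ProEtS.eps X ⟶ (Functor.const J).obj ((ProEtS.eps X).obj E) :=
    { app := fun i => (ProEtS.eps X).map (a.app i)
      naturality := fun i j f => by
        refine Eq.trans ?_ (Category.comp_id _).symm
        exact ((ProEtS.eps X).map_comp _ _).symm.trans
          (congrArg (ProEtS.eps X).map ((a.naturality f).trans (Category.comp_id _))) }
  refine acyclic_of_limit (Iso.refl _) q (Cone.mk V π) (constCone J ((ProEtS.eps X).obj E)) r
    (fun i => (hπ i).trans (Category.comp_id _).symm) (fun n i => ?_) hlim ?_ fun i => ?_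
  · haveI := haff i
    exact affine_N (rV := (ProEtS.eps X).map (a.app i : D.obj i ⟶ E)) (rU := 𝟙 _)
      (p := (ProEtS.eps X).map (a.app i : D.obj i ⟶ E)) (good_map_etale _) (good_id E) (Category.comp_id _) n
  · exact IsLimit.ofIsoLimit (isLimitConstCone J ((ProEtS.eps X).obj E).left) (Cone.ext (Iso.refl _) fun j => by
      show 𝟙 _ = 𝟙 _ ≫ _
      rw [Category.id_comp]; rfl)
  · exact acyclic_map (ProEtS.eps X) (a.app i) ((ProEtS.epsPull X).obj I).obj
      (acyclic_of_iso _ ((sheafToPresheaf _ _).mapIso (asIso ((ProEtS.epsAdj X).unit.app I)))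
        (acyclic_of_injective.{u + 1} (a.app i) I.obj))

section Step

variable (S : ShortComplex (ProEtS.AbP X)) (hS : S.ShortExact) (h₁ : Acyc S.X₁)

include hS h₁

theorem surjective_sections {U₀ : X.Etale} [IsAffine U₀.left] {U : X.ProEt} {rU : U ⟶ (ProEtS.eps X).obj U₀}
    (hU : Good rU) : Function.Surjective (S.g.hom.app (op U)) := by
  intro x
  haveI := hS.mono_f
  haveI := hS.epi_g
  haveI := hU.affine
  obtain ⟨V, p, hsurj, hwc, hV⟩ := exists_wc_cover_good hU
  haveI := hV.affine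
  haveI := isIso_pr_zero p
  obtain ⟨s, hs⟩ := surjective_of_isWC S.g hwc (rs S.X₃ p x)
  let s₀ := rs S.X₂ (Nerve.pr p (0 : Fin 1)) s
  have hb : ∀ j : Fin 2, rs S.X₃ (Nerve.δ p j) (rs S.X₃ (Nerve.bs p 0) x) = rs S.X₃ (Nerve.bs p 1) x := fun j => by
    rw [← rs_comp, Nerve.δ_bs]
  have hg0 : S.g.hom.app _ s₀ = rs S.X₃ (Nerve.bs p 0) x := by
    rw [rs_natural, hs, ← rs_comp, Nerve.pr_w]
  obtain ⟨a, ha⟩ := sections_exact S hS.exact (Nerve.N p 1) (d p S.X₂.obj 0 s₀) (by
    refine (d_natural p S.g.hom 0 s₀).trans ?_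
    rw [hg0, d_apply, Fin.sum_univ_two]
    show ((-1 : ℤ) ^ 0) • rs S.X₃ (Nerve.δ p 0) _ + ((-1 : ℤ) ^ 1) • rs S.X₃ (Nerve.δ p 1) _ = 0
    rw [hb, hb]
    simp)
  obtain ⟨y, hy⟩ := h₁ U₀ V U (p ≫ rU) rU p hV hU rfl 0 a (sections_injective S _ (by
    rw [map_zero]
    exact (d_natural p S.f.hom 1 a).trans ((congrArg (d p S.X₂.obj 1) ha).trans (d_d p S.X₂.obj 0 s₀))))
  let s' := s₀ - S.f.hom.app _ y
  have hd : d p S.X₂.obj 0 s' = 0 := by
    rw [map_sub, sub_eq_zero, ← d_natural p S.f.hom, hy, ha]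
  haveI : IsAffine (Nerve.N p 0).left := affine_N hV hU rfl 0
  haveI : Surjective (Nerve.bs p 0).left := by
    haveI : IsIso (Nerve.pr p (0 : Fin 1)).left :=
      inferInstanceAs (IsIso ((Scheme.ProEt.forget X ⋙ Over.forget X).map (Nerve.pr p (0 : Fin 1))))
    have e : (Nerve.bs p 0).left = (Nerve.pr p (0 : Fin 1)).left ≫ p.left :=
      congrArg (fun k : Nerve.N p 0 ⟶ U => k.left) (Nerve.pr_w p (0 : Fin 1)).symm
    rw [e]
    infer_instance
  have hq : Sieve.ofArrows (fun _ : PUnit.{u + 1} => Nerve.N p 0) (fun _ => Nerve.bs p 0) ∈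
      Scheme.ProEt.topology X U :=
    L27.ProEt.generate_ofArrows_mem_of_quasiCompact _ _ fun z => ⟨PUnit.unit, (Nerve.bs p 0).left.surjective z⟩
  obtain ⟨t, ht⟩ := exists_descend S.X₂ (Nerve.bs p 0) hq s' fun Z g₁ g₂ hg => by
    let l : Z ⟶ Nerve.N p 1 := WidePullback.lift (g₁ ≫ Nerve.bs p 0)
      (fun k => if k = 0 then g₂ ≫ Nerve.pr p 0 else g₁ ≫ Nerve.pr p 0) fun k => by
        dsimp only
        split_ifs
        · rw [Category.assoc, show Nerve.pr p (0 : Fin 1) ≫ (Arrow.mk p).hom = Nerve.bs p 0 from Nerve.pr_w p 0]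
          exact hg.symm
        · rw [Category.assoc, show Nerve.pr p (0 : Fin 1) ≫ (Arrow.mk p).hom = Nerve.bs p 0 from Nerve.pr_w p 0]
    have hl : ∀ k, l ≫ Nerve.pr p k = if k = 0 then g₂ ≫ Nerve.pr p 0 else g₁ ≫ Nerve.pr p 0 :=
      fun k => WidePullback.lift_π _ _ _ _ _
    have e₁ : l ≫ Nerve.δ p 0 = g₁ := Groth.L10.Nerve.hom_ext p fun i => by
      obtain rfl : i = 0 := Subsingleton.elim (α := Fin 1) i 0
      rw [Category.assoc, Nerve.δ_pr, hl, if_neg (by decide)]
    have e₂ : l ≫ Nerve.δ p 1 = g₂ := Groth.L10.Nerve.hom_ext p fun i => by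
      obtain rfl : i = 0 := Subsingleton.elim (α := Fin 1) i 0
      rw [Category.assoc, Nerve.δ_pr, hl, if_pos (by decide)]
    have h : rs S.X₂ l (d p S.X₂.obj 0 s') = 0 := (congrArg (rs S.X₂ l) hd).trans (map_zero _)
    rw [d_apply, Fin.sum_univ_two] at h
    replace h := (map_add (S.X₂.obj.map l.op).hom _ _).symm.trans h
    rw [map_zsmul, map_zsmul] at h
    change ((-1 : ℤ) ^ 0) • rs S.X₂ l (rs S.X₂ (Nerve.δ p 0) s') +
      ((-1 : ℤ) ^ 1) • rs S.X₂ l (rs S.X₂ (Nerve.δ p 1) s') = 0 at h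
    rw [← rs_comp, ← rs_comp, e₁, e₂] at h
    simp only [pow_zero, one_smul, pow_one, neg_smul, add_neg_eq_zero] at h
    exact h
  refine ⟨t, eq_of_cover S.X₃ (Nerve.bs p 0) hq ?_⟩
  rw [← rs_natural, ht, map_sub, hg0]
  rw [show S.g.hom.app (op (Nerve.N p 0)) (S.f.hom.app (op (Nerve.N p 0)) y) = 0 from
    ConcreteCategory.congr_hom (congrArg (fun k => k.hom.app (op (Nerve.N p 0))) S.zero) y, sub_zero]

theorem acyc_X₃ (h₂ : Acyc S.X₂) : Acyc S.X₃ := by
  intro U₀ _ V U rV rU p hV hU hp n x hx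
  haveI := hS.mono_f
  obtain ⟨s, rfl⟩ := surjective_sections S hS h₁ (good_N hV hU hp (n + 1)) x
  obtain ⟨a, ha⟩ := sections_exact S hS.exact _ (d p S.X₂.obj (n + 1) s) ((d_natural p S.g.hom (n + 1) s).trans hx)
  obtain ⟨y, hy⟩ := h₁ U₀ V U rV rU p hV hU hp (n + 1) a (sections_injective S _ (by
    rw [map_zero]
    exact (d_natural p S.f.hom (n + 2) a).trans
      ((congrArg (d p S.X₂.obj (n + 2)) ha).trans (d_d p S.X₂.obj (n + 1) s))))
  obtain ⟨b, hb⟩ := h₂ U₀ V U rV rU p hV hU hp n (s - S.f.hom.app _ y) (by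
    rw [map_sub, sub_eq_zero, ← d_natural p S.f.hom, hy, ha])
  refine ⟨S.g.hom.app _ b, (d_natural p S.g.hom n b).symm.trans ((congrArg _ hb).trans ?_)⟩
  rw [map_sub, show S.g.hom.app (op (Nerve.N p (n + 1))) (S.f.hom.app (op (Nerve.N p (n + 1))) y) = 0 from
    ConcreteCategory.congr_hom (congrArg (fun k => k.hom.app (op (Nerve.N p (n + 1)))) S.zero) y, sub_zero]

end Step

section Resolution

variable (K : CochainComplex (ProEtS.AbP X) ℕ) (hK : ∀ n, Injective (K.X n)) (hex : ∀ n, K.ExactAt (n + 1))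

/-- cycles of a resolution -/
noncomputable abbrev cyc (n : ℕ) : ProEtS.AbP X := kernel (K.d n (n + 1))

/-- the map onto the next cycles -/
noncomputable abbrev next (n : ℕ) : K.X n ⟶ cyc K (n + 1) :=
  kernel.lift _ (K.d n (n + 1)) (K.d_comp_d n (n + 1) (n + 1 + 1))

include hex in
theorem shortExact_cyc (n : ℕ) :
    ∃ h, (ShortComplex.mk (kernel.ι (K.d n (n + 1))) (next K n) h).ShortExact := by
  have h : kernel.ι (K.d n (n + 1)) ≫ next K n = 0 := by
    rw [← cancel_mono (kernel.ι (K.d (n + 1) (n + 1 + 1))), Category.assoc, kernel.lift_ι, kernel.condition, zero_comp]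
  refine ⟨h, ?_⟩
  have hx : (ShortComplex.mk (K.d n (n + 1)) (K.d (n + 1) (n + 1 + 1)) (K.d_comp_d n (n + 1) (n + 1 + 1))).Exact :=
    (HomologicalComplex.exactAt_iff' K n (n + 1) (n + 1 + 1) (by simp) (by simp)).1 (hex n)
  haveI : Epi (next K n) := (ShortComplex.exact_iff_epi_kernel_lift _).1 hx
  refine { exact := ?_ }
  let φ : ShortComplex.mk (kernel.ι (K.d n (n + 1))) (next K n) h ⟶
      ShortComplex.mk (kernel.ι (K.d n (n + 1))) (K.d n (n + 1)) (kernel.condition _) :=
    { τ₁ := 𝟙 _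
      τ₂ := 𝟙 _
      τ₃ := kernel.ι (K.d (n + 1) (n + 1 + 1))
      comm₁₂ := (Category.id_comp _).trans (Category.comp_id _).symm
      comm₂₃ := (Category.id_comp _).trans (kernel.lift_ι _ _ _).symm }
  haveI : Epi φ.τ₁ := inferInstanceAs (Epi (𝟙 _))
  haveI : IsIso φ.τ₂ := IsIso.id _
  haveI : Mono φ.τ₃ := inferInstanceAs (Mono (kernel.ι _))
  exact (ShortComplex.exact_iff_of_epi_of_isIso_of_mono φ).2 (ShortComplex.exact_kernel _)

include hK hex in
theorem acyc_cyc (h₀ : Acyc (cyc K 0)) (n : ℕ) : Acyc (cyc K n) := by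
  induction n with
  | zero => exact h₀
  | succ n ih =>
    obtain ⟨h, hS⟩ := shortExact_cyc K hex n
    haveI := hK n
    exact acyc_X₃ _ hS ih (acyc_of_injective (K.X n))

include hK hex in
theorem exists_boundary (h₀ : Acyc (cyc K 0)) {U₀ : X.Etale} [IsAffine U₀.left] {U : X.ProEt}
    {rU : U ⟶ (ProEtS.eps X).obj U₀} (hU : Good rU) (n : ℕ) (x : (K.X (n + 1)).obj.obj (op U))
    (hx : (K.d (n + 1) (n + 1 + 1)).hom.app (op U) x = 0) :
    ∃ y, (K.d n (n + 1)).hom.app (op U) y = x := by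
  let T := ShortComplex.mk (kernel.ι (K.d (n + 1) (n + 1 + 1))) (K.d (n + 1) (n + 1 + 1)) (kernel.condition _)
  haveI : Mono T.f := inferInstanceAs (Mono (kernel.ι _))
  obtain ⟨z, hz⟩ := sections_exact T (ShortComplex.exact_kernel _) U x hx
  obtain ⟨h, hS⟩ := shortExact_cyc K hex n
  obtain ⟨y, hy⟩ := surjective_sections _ hS (acyc_cyc K hK hex h₀ n) hU z
  refine ⟨y, Eq.trans ?_ ((congrArg _ hy).trans hz)⟩
  exact (ConcreteCategory.congr_hom (congrArg (fun k => k.hom.app (op U)) (kernel.lift_ι _ (K.d n (n + 1))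
    (K.d_comp_d n (n + 1) (n + 1 + 1)))) y).symm

end Resolution

end Groth.L28.ProEt.Cech
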