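import Groth.Agent.L28.ProEt.Cech.Qcqs
import Groth.Agent.L27.ProEt.Points

/-!
Sections over quasi-compact quasi-separated limits of étale objects.
-/

set_option autoImplicit false
set_option linter.style.haveILetI false

universe w v u u'

open CategoryTheory CategoryTheory.Limits AlgebraicGeometry Opposite

set_option backward.isDefEq.respectTransparency.types false

namespace Groth.L28.ProEt.Cech

section Injective

theorem freeAbelianGroup_map_injective {α β : Type w} (f : α → β) (hf : Function.Injective f) :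
    Function.Injective (FreeAbelianGroup.map f) := by
  classical
  let r : FreeAbelianGroup β →+ FreeAbelianGroup α := FreeAbelianGroup.lift fun b =>
    if h : ∃ a, f a = b then FreeAbelianGroup.of h.choose else 0
  have h : r.comp (FreeAbelianGroup.map f) = AddMonoidHom.id _ := FreeAbelianGroup.lift_ext _ _ fun a => by
    show r (FreeAbelianGroup.map f (FreeAbelianGroup.of a)) = FreeAbelianGroup.of a
    rw [FreeAbelianGroup.map_of_apply]
    refine (FreeAbelianGroup.lift_apply_of _ _).trans ?_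
    have he : ∃ a', f a' = f a := ⟨a, rfl⟩
    rw [dif_pos he]
    exact congrArg FreeAbelianGroup.of (hf he.choose_spec)
  exact Function.LeftInverse.injective (g := r) fun x => DFunLike.congr_fun h x

variable {C : Type u'} [Category.{v} C] [HasFiniteWidePullbacks C]

theorem surjective_res_of_injective (P : Cᵒᵖ ⥤ AddCommGrpCat.{max v w}) [Injective P] {A B : C} (f : A ⟶ B) [Mono f] :
    Function.Surjective (P.map f.op) := by
  haveI : ∀ W : Cᵒᵖ, Mono (((fp.{w} C).map f).app W) := fun W => by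
    refine (AddCommGrpCat.mono_iff_injective _).2 ?_
    refine freeAbelianGroup_map_injective _ fun a b hab => ULift.ext _ _ ?_
    exact (cancel_mono f).1 (congrArg ULift.down hab)
  haveI : Mono ((fp.{w} C).map f) := NatTrans.mono_of_mono_app _
  intro x
  refine ⟨fpVal (Injective.factorThru (fpDesc P x) ((fp.{w} C).map f)), ?_⟩
  refine (fpVal_map f _).symm.trans ?_
  rw [Injective.comp_factorThru]
  exact fpVal_desc P x

end Injective

variable {X : Scheme.{u}}

theorem isOpenImmersion_ι (S : Scheme.{u}) (W : S.Opens) : IsOpenImmersion W.ι := inferInstance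

theorem mono_of_isOpenImmersion {V T : X.ProEt} (f : V ⟶ T) [IsOpenImmersion f.left] : Mono f :=
  haveI : Mono ((sch X).map f) := inferInstanceAs (Mono f.left)
  (sch X).mono_of_mono_map ‹_›

/-- restriction to quasi-compact opens is surjective -/
def Fl (Z : ProEtS.AbP X) : Prop :=
  ∀ ⦃V T : X.ProEt⦄ (f : V ⟶ T), IsOpenImmersion f.left → IsLimEt V → IsLimEt T →
    Function.Surjective (rs Z f)

theorem Fl.apply {Z : ProEtS.AbP X} (h : Fl Z) {V T : X.ProEt} (f : V ⟶ T) (hf : IsOpenImmersion f.left)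
    (hV : IsLimEt V) (hT : IsLimEt T) : Function.Surjective (rs Z f) := h f hf hV hT

theorem fl_of_injective (Z : ProEtS.AbP X) [Injective Z] : Fl Z := by
  intro V T f hf _ _
  haveI := mono_of_isOpenImmersion f
  haveI : Injective Z.obj := Injective.injective_of_adjoint (sheafificationAdjunction _ AddCommGrpCat.{u + 1}) Z
  exact surjective_res_of_injective.{u + 1} Z.obj f

theorem fl_of_iso {A B : ProEtS.AbP X} (e : A ≅ B) (h : Fl A) : Fl B := by
  intro V T f hf hV hT x
  obtain ⟨y, hy⟩ := h f hf hV hT (e.inv.hom.app _ x)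
  refine ⟨e.hom.hom.app _ y, (rs_natural e.hom f y).symm.trans ?_⟩
  rw [hy]
  exact ConcreteCategory.congr_hom (congrArg (fun k => k.hom.app (op V)) e.inv_hom_id) x

section Stage

variable [ProEtS.EpsCont X] {F : EtCoh.Ab X} {I : Type u} [SmallCategory I] [IsCofiltered I] {D : I ⥤ X.Etale}
  {T : X.ProEt} (π : (Functor.const I).obj T ⟶ D ⋙ ProEtS.eps X)
  (hl : IsLimit ((sch X).mapCone (Cone.mk T π))) (hc : ∀ i, CompactSpace (D.obj i).left)
  (hq : ∀ i, QuasiSeparatedSpace (D.obj i).left) (ha : ∀ (i j : I) (f : i ⟶ j), IsAffineHom (D.map f).left)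

include hl hc hq ha

variable (F) in
theorem nonempty_isColimit_qcqs :
    Nonempty (IsColimit ((((ProEtS.epsPull X).obj F).obj ⋙ forget AddCommGrpCat.{u + 1}).mapCocone (Cone.mk T π).op)) := by
  haveI : ∀ (i j : I) (a : i ⟶ j), IsAffineHom ((D ⋙ ProEtS.eps X).map a).left := ha
  haveI : ∀ i, CompactSpace ↥((D ⋙ ProEtS.eps X).obj i).left := hc
  haveI : ∀ i, QuasiSeparatedSpace ↥((D ⋙ ProEtS.eps X).obj i).left := hq
  obtain ⟨h⟩ := Groth.Agent.S7282.result X (D ⋙ ProEtS.eps X) (Cone.mk T π) hl F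
  haveI : PreservesColimitsOfShape Iᵒᵖ (forget AddCommGrpCat.{u + 1}) := by
    haveI : IsFiltered (AsSmall.{u + 1} Iᵒᵖ) := IsFiltered.of_equivalence AsSmall.equiv
    haveI : PreservesColimitsOfShape (AsSmall.{u + 1} Iᵒᵖ) (forget AddCommGrpCat.{u + 1}) :=
      PreservesFilteredColimitsOfSize.preserves_filtered_colimits.{u + 1, u + 1} _
    exact preservesColimitsOfShape_of_equiv AsSmall.equiv.symm _
  exact ⟨isColimitOfPreserves (forget AddCommGrpCat.{u + 1}) h⟩

theorem exists_stage_qcqs (x : ((ProEtS.epsPull X).obj F).obj.obj (op T)) :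
    ∃ (i : I) (y : ((ProEtS.epsPull X).obj F).obj.obj (op ((ProEtS.eps X).obj (D.obj i)))),
      rs ((ProEtS.epsPull X).obj F) (π.app i) y = x := by
  obtain ⟨h⟩ := nonempty_isColimit_qcqs F π hl hc hq ha
  obtain ⟨i, y, hy⟩ := Types.jointly_surjective_of_isColimit h x
  exact ⟨i.unop, y, hy⟩

theorem exists_zero_qcqs {i : I} (y : ((ProEtS.epsPull X).obj F).obj.obj (op ((ProEtS.eps X).obj (D.obj i))))
    (hy : rs ((ProEtS.epsPull X).obj F) (π.app i) y = 0) :
    ∃ (j : I) (f : j ⟶ i), rs ((ProEtS.epsPull X).obj F) ((ProEtS.eps X).map (D.map f)) y = 0 := by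
  obtain ⟨h⟩ := nonempty_isColimit_qcqs F π hl hc hq ha
  have h0 : rs ((ProEtS.epsPull X).obj F) (π.app i) (0 : ((ProEtS.epsPull X).obj F).obj.obj _) = 0 := map_zero _
  obtain ⟨k, f, g, hfg⟩ := (Types.FilteredColimit.isColimit_eq_iff _ h (i := op i) (j := op i) (xi := y)
    (xj := (0 : ((ProEtS.epsPull X).obj F).obj.obj (op ((ProEtS.eps X).obj (D.obj i)))))).1 (hy.trans h0.symm)
  exact ⟨k.unop, f.unop, hfg.trans (map_zero (((ProEtS.epsPull X).obj F).obj.map ((ProEtS.eps X).map (D.map g.unop)).op).hom)⟩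

end Stage

variable [ProEtS.EpsCont X]

/-- `ε⁻¹` of an injective sheaf restricts surjectively to quasi-compact opens -/
theorem fl_epsPull (F : EtCoh.Ab X) [Injective F] : Fl ((ProEtS.epsPull X).obj F) := by
  intro V T f hf hV hT x
  haveI := isIso_unit_ab X
  haveI : Injective F.obj := Injective.injective_of_adjoint (sheafificationAdjunction _ AddCommGrpCat.{u + 1}) F
  haveI := hV.compact
  let A := (ProEtS.epsPull X).obj F
  obtain ⟨I, _, _, D, π, hc, hq, ha, ⟨hl⟩⟩ := hT
  have hRc : IsCompact (f.left.opensRange : Set T.left) := by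
    rw [Scheme.Hom.coe_opensRange]
    exact isCompact_range f.left.continuous
  obtain ⟨i, W, hW, hR⟩ := exists_stage_open D π hl hc hq ha f.left.opensRange hRc
  let V' := L27.ProEt.mkOpen T (preTop D π i W)
  let e : V' ⟶ T := L27.ProEt.mkOpenHom T (preTop D π i W)
  haveI : IsOpenImmersion e.left := isOpenImmersion_ι T.left (preTop D π i W)
  have he : Set.range e.left = (preTop D π i W : Set T.left) := Scheme.Opens.range_ι _
  have hr₁ : Set.range f.left ⊆ Set.range e.left := by
    rw [he, hR, Scheme.Hom.coe_opensRange]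
  have hr₂ : Set.range e.left ⊆ Set.range f.left := by
    rw [he, hR, Scheme.Hom.coe_opensRange]
  let a : V ⟶ V' := MorphismProperty.Over.homMk (IsOpenImmersion.lift e.left f.left hr₁) (by
    rw [← MorphismProperty.Over.w e, IsOpenImmersion.lift_fac_assoc]
    exact MorphismProperty.Over.w f)
  let b : V' ⟶ V := MorphismProperty.Over.homMk (IsOpenImmersion.lift f.left e.left hr₂) (by
    rw [← MorphismProperty.Over.w f, IsOpenImmersion.lift_fac_assoc]
    exact MorphismProperty.Over.w e)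
  have hab : a ≫ b = 𝟙 V := by
    haveI := mono_of_isOpenImmersion f
    rw [← cancel_mono f, Category.id_comp, Category.assoc]
    refine MorphismProperty.Over.Hom.ext ?_
    show IsOpenImmersion.lift e.left f.left hr₁ ≫ IsOpenImmersion.lift f.left e.left hr₂ ≫ f.left = f.left
    rw [IsOpenImmersion.lift_fac, IsOpenImmersion.lift_fac]
  have haf : a ≫ L27.ProEt.mkOpenHom T _ = f :=
    MorphismProperty.Over.Hom.ext (IsOpenImmersion.lift_fac e.left f.left hr₁)
  obtain ⟨j, y, hy⟩ := exists_stage_qcqs (F := F) (preCone D π i W) (isLimitPreCone D π hl i W)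
    (fun j => by
      haveI := ha _ _ j.hom
      exact isCompact_iff_compactSpace.mp (QuasiCompact.isCompact_preimage (f := (D.map j.hom).left) _ W.2 hW))
    (fun j => by
      haveI := hq j.left
      exact (isQuasiSeparated_iff_quasiSeparatedSpace _ ((D.map j.hom).left ⁻¹ᵁ W).2).mp (.of_quasiSeparatedSpace _))
    (fun j k g => isAffineHom_preDiag D ha i W g) (rs A b x)
  let m : (preDiag D i W).obj j ⟶ D.obj j.left := (preDiagι D i W).app j
  haveI : Mono m := by
    haveI : Mono m.left := inferInstanceAs (Mono ((D.map j.hom).left ⁻¹ᵁ W).ι)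
    haveI : Mono ((Scheme.Etale.forget X ⋙ Over.forget X).map m) := inferInstanceAs (Mono m.left)
    exact (Scheme.Etale.forget X ⋙ Over.forget X).mono_of_mono_map ‹_›
  obtain ⟨s, hs⟩ := (ConcreteCategory.bijective_of_isIso (((ProEtS.epsAdj X).unit.app F).hom.app (op ((preDiag D i W).obj j)))).2 y
  obtain ⟨s', hs'⟩ := surjective_res_of_injective.{u + 1} F.obj m s
  refine ⟨rs A (π.app j.left) (((ProEtS.epsAdj X).unit.app F).hom.app (op (D.obj j.left)) s'), ?_⟩
  have h1 : rs A ((ProEtS.eps X).map m) (((ProEtS.epsAdj X).unit.app F).hom.app (op (D.obj j.left)) s') = y :=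
    ((NatTrans.naturality_apply ((ProEtS.epsAdj X).unit.app F).hom m.op s').symm.trans
      (congrArg _ hs')).trans hs
  rw [← haf, rs_comp, ← rs_comp A (L27.ProEt.mkOpenHom T _) (π.app j.left)]
  refine (congrArg (fun k => rs A a (rs A k _)) (preCone_ι D π i W j).symm).trans ?_
  refine (congrArg (rs A a) ((rs_comp A _ _ _).trans ((congrArg (rs A ((preCone D π i W).app j)) h1).trans hy))).trans ?_
  rw [← rs_comp, hab]
  exact ConcreteCategory.congr_hom (A.obj.map_id _) x

omit [ProEtS.EpsCont X]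

section Step

variable (S : ShortComplex (ProEtS.AbP X)) (hS : S.ShortExact) (h₁ : Acyc S.X₁) (hf₁ : Fl S.X₁)

theorem exists_lift_open {Z T : X.ProEt} (g : Z ⟶ T) (W : T.left.Opens) (h : ∀ z, g.left z ∈ W) :
    ∃ l : Z ⟶ L27.ProEt.mkOpen T W, l ≫ L27.ProEt.mkOpenHom T W = g := by
  let e : L27.ProEt.mkOpen T W ⟶ T := L27.ProEt.mkOpenHom T W
  haveI : IsOpenImmersion e.left := isOpenImmersion_ι T.left W
  have he : Set.range e.left = (W : Set T.left) := Scheme.Opens.range_ι _
  have hr : Set.range g.left ⊆ Set.range e.left := by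
    rw [he]
    rintro _ ⟨z, rfl⟩
    exact h z
  refine ⟨MorphismProperty.Over.homMk (IsOpenImmersion.lift e.left g.left hr) ?_,
    MorphismProperty.Over.Hom.ext (IsOpenImmersion.lift_fac e.left g.left hr)⟩
  rw [← MorphismProperty.Over.w e, IsOpenImmersion.lift_fac_assoc]
  exact MorphismProperty.Over.w g

include hS h₁ hf₁

theorem exists_lift_union {T : X.ProEt} (hT : IsLimEt T) {n : ℕ} (A : Fin n → T.left.Opens)
    (hA : ∀ k, IsCompact (A k : Set T.left))
    (hG : ∀ k, ∃ (U₀ : X.Etale) (_ : IsAffine U₀.left) (r : L27.ProEt.mkOpen T (A k) ⟶ (ProEtS.eps X).obj U₀), Good r)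
    (x : S.X₃.obj.obj (op T)) (s : Finset (Fin n)) :
    IsCompact ((s.sup A : T.left.Opens) : Set T.left) ∧ ∃ k : S.X₂.obj.obj (op (L27.ProEt.mkOpen T (s.sup A))),
      S.g.hom.app _ k = rs S.X₃ (L27.ProEt.mkOpenHom T _) x := by
  classical
  induction s using Finset.induction_on with
  | empty =>
    refine ⟨by rw [Finset.sup_empty]; exact isCompact_empty, 0, ?_⟩
    haveI : IsEmpty (L27.ProEt.mkOpen T ((∅ : Finset (Fin n)).sup A)).left := by
      rw [Finset.sup_empty]
      exact ⟨fun z => z.2⟩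
    haveI := L27.ProEt.subsingleton_of_isEmpty
      ((sheafCompose (Scheme.ProEt.topology X) (forget AddCommGrpCat.{u + 1})).obj S.X₃)
      (L27.ProEt.mkOpen T ((∅ : Finset (Fin n)).sup A))
    exact @Subsingleton.elim _ this _ _
  | insert a s _ ih =>
    rw [Finset.sup_insert]
    generalize s.sup A = U at ih ⊢
    obtain ⟨hc, k, hk⟩ := ih
    obtain ⟨U₀, _, r, hr⟩ := hG a
    obtain ⟨kA, hkA⟩ := surjective_sections S hS h₁ hr (rs S.X₃ (L27.ProEt.mkOpenHom T (A a)) x)
    haveI := hT.quasiSeparated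
    have hc' : IsCompact ((A a ⊓ U : T.left.Opens) : Set T.left) :=
      QuasiSeparatedSpace.inter_isCompact _ _ (A a).2 (hA a) U.2 hc
    let l₁ := L27.ProEt.mkOpenLE T (inf_le_left (a := A a) (b := U))
    let l₂ := L27.ProEt.mkOpenLE T (inf_le_right (a := A a) (b := U))
    haveI := hS.mono_f
    obtain ⟨z, hz⟩ := sections_exact S hS.exact _ (rs S.X₂ l₁ kA - rs S.X₂ l₂ k) (by
      rw [map_sub, rs_natural, rs_natural, hkA, hk, ← rs_comp, ← rs_comp, L27.ProEt.mkOpenLE_comp,
        L27.ProEt.mkOpenLE_comp, sub_self])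
    obtain ⟨z', hz'⟩ := hf₁ l₁ (inferInstanceAs (IsOpenImmersion (T.left.homOfLE (inf_le_left (a := A a) (b := U))))) (hT.opens _ hc')
      (hT.opens _ (hA a)) z
    let kA' := kA - S.f.hom.app _ z'
    have hkA' : S.g.hom.app _ kA' = rs S.X₃ (L27.ProEt.mkOpenHom T (A a)) x := by
      rw [map_sub, hkA, show S.g.hom.app (op (L27.ProEt.mkOpen T (A a))) (S.f.hom.app (op (L27.ProEt.mkOpen T (A a))) z') = 0 from
        ConcreteCategory.congr_hom (congrArg (fun m => m.hom.app (op (L27.ProEt.mkOpen T (A a)))) S.zero) z', sub_zero]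
    have hagree : rs S.X₂ l₁ kA' = rs S.X₂ l₂ k := by
      show S.X₂.obj.map l₁.op (kA - S.f.hom.app _ z') = _
      rw [map_sub]
      show rs S.X₂ l₁ kA - rs S.X₂ l₁ (S.f.hom.app _ z') = _
      rw [← rs_natural, hz', hz, sub_sub_cancel]
    refine ⟨(hA a).union hc, ?_⟩
    let B : Fin 2 → T.left.Opens := ![A a, U]
    have hB : ∀ i, B i ≤ A a ⊔ U := fun i => by fin_cases i <;> simp [B]
    let sec : ∀ i, S.X₂.obj.obj (op (L27.ProEt.mkOpen T (B i))) :=
      Fin.cases kA' fun i => Fin.cases k (fun j => j.elim0) i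
    let ι := ULift.{u + 1} (Fin 2)
    let p : ∀ i : ι, L27.ProEt.mkOpen T (B i.down) ⟶ L27.ProEt.mkOpen T (A a ⊔ U) :=
      fun i => L27.ProEt.mkOpenLE T (hB i.down)
    haveI : ∀ i : ULift.{u} (Fin 2), IsOpenImmersion (L27.ProEt.mkOpenLE T (hB i.down)).left := fun i =>
      inferInstanceAs (IsOpenImmersion (T.left.homOfLE (hB i.down)))
    have hcov : Sieve.ofArrows (fun i : ULift.{u} (Fin 2) => L27.ProEt.mkOpen T (B i.down))
        (fun i => L27.ProEt.mkOpenLE T (hB i.down)) ∈ Scheme.ProEt.topology X (L27.ProEt.mkOpen T (A a ⊔ U)) := by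
      refine L27.ProEt.generate_ofArrows_mem_of_isOpenImmersion _ _ fun y => ?_
      rcases y.2 with hy | hy
      · exact ⟨⟨0⟩, ⟨y.1, hy⟩, Subtype.ext (Scheme.homOfLE_apply (hB _) _)⟩
      · exact ⟨⟨1⟩, ⟨y.1, hy⟩, Subtype.ext (Scheme.homOfLE_apply (hB _) _)⟩
    have hG₂ := (isSheaf_iff_isSheaf_of_type _ _).mp
      ((sheafCompose (Scheme.ProEt.topology X) (forget AddCommGrpCat.{u + 1})).obj S.X₂).property
    obtain ⟨t, ht, -⟩ := ((Presieve.isSheafFor_arrows_iff _ _).mp
      ((Presieve.isSheafFor_iff_generate _).mpr (hG₂ _ hcov))) (fun i => sec i.down) (fun i j Z g₁ g₂ h => by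
        obtain ⟨i⟩ := i
        obtain ⟨j⟩ := j
        have key : ∀ (g₁ : Z ⟶ L27.ProEt.mkOpen T (A a)) (g₂ : Z ⟶ L27.ProEt.mkOpen T U),
            g₁ ≫ L27.ProEt.mkOpenHom T (A a) = g₂ ≫ L27.ProEt.mkOpenHom T U →
              rs S.X₂ g₁ kA' = rs S.X₂ g₂ k := by
          intro g₁ g₂ h
          obtain ⟨l, hl⟩ := exists_lift_open (g₁ ≫ L27.ProEt.mkOpenHom T (A a)) (A a ⊓ U) fun z => by
            refine ⟨(g₁.left z).2, ?_⟩
            rw [h]
            exact (g₂.left z).2
          haveI : IsOpenImmersion (L27.ProEt.mkOpenHom T (A a)).left := inferInstanceAs (IsOpenImmersion (A a).ι)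
          haveI : IsOpenImmersion (L27.ProEt.mkOpenHom T U).left := inferInstanceAs (IsOpenImmersion U.ι)
          haveI := mono_of_isOpenImmersion (L27.ProEt.mkOpenHom T (A a))
          haveI := mono_of_isOpenImmersion (L27.ProEt.mkOpenHom T U)
          have e₁ : l ≫ l₁ = g₁ := by
            rw [← cancel_mono (L27.ProEt.mkOpenHom T (A a)), Category.assoc, L27.ProEt.mkOpenLE_comp, hl]
          have e₂ : l ≫ l₂ = g₂ := by
            rw [← cancel_mono (L27.ProEt.mkOpenHom T U), Category.assoc, L27.ProEt.mkOpenLE_comp, hl, h]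
          rw [← e₁, ← e₂, rs_comp, rs_comp, hagree]
        have h' : g₁ ≫ L27.ProEt.mkOpenHom T (B i) = g₂ ≫ L27.ProEt.mkOpenHom T (B j) := by
          have := congrArg (fun m => m ≫ L27.ProEt.mkOpenHom T (A a ⊔ U)) h
          simpa only [Category.assoc, L27.ProEt.mkOpenLE_comp] using this
        show rs S.X₂ g₁ (sec i) = rs S.X₂ g₂ (sec j)
        fin_cases i <;> fin_cases j
        · haveI : IsOpenImmersion (L27.ProEt.mkOpenHom T (B 0)).left := inferInstanceAs (IsOpenImmersion (B 0).ι)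
          haveI := mono_of_isOpenImmersion (L27.ProEt.mkOpenHom T (B 0))
          rw [(cancel_mono (L27.ProEt.mkOpenHom T (B 0))).1 h']
        · exact key g₁ g₂ h'
        · exact (key g₂ g₁ h'.symm).symm
        · haveI : IsOpenImmersion (L27.ProEt.mkOpenHom T (B 1)).left := inferInstanceAs (IsOpenImmersion (B 1).ι)
          haveI := mono_of_isOpenImmersion (L27.ProEt.mkOpenHom T (B 1))
          rw [(cancel_mono (L27.ProEt.mkOpenHom T (B 1))).1 h'])
    refine ⟨t, ?_⟩
    have hG₃ := (isSheaf_iff_isSheaf_of_type _ _).mp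
      ((sheafCompose (Scheme.ProEt.topology X) (forget AddCommGrpCat.{u + 1})).obj S.X₃).property
    refine (hG₃ _ hcov).isSeparatedFor.ext ?_
    rintro Y f ⟨_, m, _, ⟨i⟩, rfl⟩
    show rs S.X₃ (m ≫ L27.ProEt.mkOpenLE T (hB i.down)) _ = rs S.X₃ (m ≫ L27.ProEt.mkOpenLE T (hB i.down)) _
    rw [rs_comp, rs_comp, ← rs_natural, show rs S.X₂ (L27.ProEt.mkOpenLE T (hB i.down)) t = sec i.down from ht i,
      ← rs_comp (S.X₃) (L27.ProEt.mkOpenLE T (hB i.down)), L27.ProEt.mkOpenLE_comp]
    obtain ⟨i⟩ := i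
    refine congrArg (rs S.X₃ m) ?_
    fin_cases i
    · exact hkA'
    · exact hk

theorem surjective_qcqs {T : X.ProEt} (hT : IsLimEt T) : Function.Surjective (S.g.hom.app (op T)) := by
  intro x
  obtain ⟨I, _, _, D, π, hc, hq, ha, ⟨hl⟩⟩ := id hT
  obtain ⟨n, A, hcov, hA, hG⟩ := exists_good_cover_opens D π hl hc hq ha
  obtain ⟨-, k, hk⟩ := exists_lift_union S hS h₁ hf₁ hT A hA hG x Finset.univ
  obtain ⟨l, hl'⟩ := exists_lift_open (𝟙 T) (Finset.univ.sup A) fun z => by
    obtain ⟨i, hi⟩ := Set.mem_iUnion.1 (hcov.ge (Set.mem_univ z))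
    exact (Finset.le_sup (f := A) (Finset.mem_univ i)) hi
  refine ⟨rs S.X₂ l k, ?_⟩
  rw [rs_natural, hk, ← rs_comp, hl']
  exact ConcreteCategory.congr_hom (S.X₃.obj.map_id _) x

theorem fl_X₃ (hf₂ : Fl S.X₂) : Fl S.X₃ := by
  intro V T f hf hV hT z
  obtain ⟨k, rfl⟩ := surjective_qcqs S hS h₁ hf₁ hV z
  obtain ⟨k', rfl⟩ := hf₂ f hf hV hT k
  exact ⟨S.g.hom.app _ k', (rs_natural S.g f k').symm⟩

end Step

section Resolution

variable (K : CochainComplex (ProEtS.AbP X) ℕ) (hK : ∀ n, Injective (K.X n)) (hex : ∀ n, K.ExactAt (n + 1))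

include hK hex in
theorem fl_cyc (h₀ : Acyc (cyc K 0)) (hf₀ : Fl (cyc K 0)) (n : ℕ) : Fl (cyc K n) := by
  induction n with
  | zero => exact hf₀
  | succ n ih =>
    obtain ⟨h, hS⟩ := shortExact_cyc K hex n
    haveI := hK n
    exact fl_X₃ _ hS (acyc_cyc K hK hex h₀ n) ih (fl_of_injective (K.X n))

end Resolution

end Groth.L28.ProEt.Cech
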