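import Groth.Agent.L28.ProEt.Cech.Limit
import Groth.Agent.L28.ProEt.Cover
import Groth.Agent.L28.ProEt.Ext
import Groth.Agent.L27.IndEtalePerm
import Mathlib.AlgebraicGeometry.Morphisms.Affine

/-!
Affine pro-étale objects which are ind-étale over an affine étale object.
-/

set_option autoImplicit false
set_option linter.style.haveILetI false

universe u

open CategoryTheory CategoryTheory.Limits AlgebraicGeometry Opposite

set_option backward.isDefEq.respectTransparency.types false

namespace Groth.L28.ProEt.Cech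

/-- ind-étale ring maps -/
abbrev IndE : MorphismProperty CommRingCat.{u} := MorphismProperty.ind.{u} L27.IndEtale.EtaleProp

theorem indE_algebraMap {A B : CommRingCat.{u}} (f : A ⟶ B) :
    (letI := f.hom.toAlgebra; EtPBC.IsIndEtale A B) ↔ IndE f := by
  letI := f.hom.toAlgebra
  exact L27.IndEtale.isIndEtale_iff A B

theorem indE_comp {A B C : CommRingCat.{u}} {f : A ⟶ B} {g : B ⟶ C} (hf : IndE f) (hg : IndE g) : IndE (f ≫ g) :=
  (MorphismProperty.IsStableUnderComposition.ind_of_preIndSpreads L27.IndEtale.etaleProp_le_fp).comp_mem f g hf hg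

theorem indE_cancel {A B C : CommRingCat.{u}} {f : A ⟶ B} {g : B ⟶ C} (hf : IndE f) (hfg : IndE (f ≫ g)) : IndE g := by
  letI := f.hom.toAlgebra
  letI := g.hom.toAlgebra
  letI := (f ≫ g).hom.toAlgebra
  haveI : IsScalarTower A B C := .of_algebraMap_eq' rfl
  exact (indE_algebraMap g).1 (L27.IndEtale.of_isScalarTower A B C ((indE_algebraMap f).2 hf) ((indE_algebraMap (f ≫ g)).2 hfg))

theorem indE_of_etale {Y Z : Scheme.{u}} (f : Y ⟶ Z) [AlgebraicGeometry.Etale f] [IsAffine Y] [IsAffine Z] :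
    IndE f.appTop :=
  MorphismProperty.le_ind _ _ (HasRingHomProperty.appTop (P := @AlgebraicGeometry.Etale) f inferInstance)

theorem indE_of_iso {A B : CommRingCat.{u}} (f : A ⟶ B) [IsIso f] : IndE f :=
  MorphismProperty.le_ind _ _ (RingHom.Etale.of_bijective (ConcreteCategory.bijective_of_isIso f))

theorem indE_appTop_of_iso {Y Z : Scheme.{u}} (f : Y ⟶ Z) [IsIso f] : IndE f.appTop :=
  @indE_of_iso _ _ _ (inferInstanceAs (IsIso (Scheme.Γ.map f.op)))

theorem indE_of_isPullback {P Y₁ Y₂ Z : Scheme.{u}} {a : P ⟶ Y₁} {b : P ⟶ Y₂} {f : Y₁ ⟶ Z} {g : Y₂ ⟶ Z}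
    [IsAffine Y₁] [IsAffine Y₂] [IsAffine Z] (h : CategoryTheory.IsPullback a b f g) (hf : IndE f.appTop) :
    IndE b.appTop :=
  MorphismProperty.of_isPushout (isPushout_appTop_of_isPullback h).flip hf

variable {X : Scheme.{u}}

/-- affine and ind-étale over an affine étale object -/
structure Good {U₀ : X.Etale} {W : X.ProEt} (r : W ⟶ (ProEtS.eps X).obj U₀) : Prop where
  affine : IsAffine W.left
  indE : IndE (r.left.appTop)

theorem appTop_comp {W V Y : X.ProEt} (g : W ⟶ V) (f : V ⟶ Y) :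
    (g ≫ f).left.appTop = f.left.appTop ≫ g.left.appTop := Scheme.Hom.comp_appTop _ _

variable {U₀ : X.Etale} [IsAffine U₀.left]

theorem indE_of_good {V U : X.ProEt} {rV : V ⟶ (ProEtS.eps X).obj U₀} {rU : U ⟶ (ProEtS.eps X).obj U₀}
    (hV : Good rV) (hU : Good rU) (p : V ⟶ U) (h : p ≫ rU = rV) : IndE p.left.appTop := by
  refine indE_cancel hU.indE ?_
  rw [← appTop_comp, h]
  exact hV.indE

theorem good_id (U₀ : X.Etale) [IsAffine U₀.left] : Good (𝟙 ((ProEtS.eps X).obj U₀)) :=
  ⟨‹IsAffine U₀.left›, indE_appTop_of_iso (𝟙 U₀.left)⟩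

/-- change of the étale object below -/
theorem good_of_etale {E : X.Etale} [IsAffine E.left] (a : E ⟶ U₀) {V : X.ProEt} {r : V ⟶ (ProEtS.eps X).obj E}
    (h : Good (r ≫ (ProEtS.eps X).map a)) : Good r := by
  haveI := h.affine
  haveI : IsAffine ((ProEtS.eps X).obj E).left := ‹IsAffine E.left›
  haveI : IsAffine ((ProEtS.eps X).obj U₀).left := ‹IsAffine U₀.left›
  haveI : AlgebraicGeometry.Etale E.hom := E.prop
  haveI : AlgebraicGeometry.Etale U₀.hom := U₀.prop
  haveI : AlgebraicGeometry.Etale ((ProEtS.eps X).map a).left := by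
    haveI : AlgebraicGeometry.Etale (a.left ≫ U₀.hom) := by rw [MorphismProperty.Over.w a]; infer_instance
    exact AlgebraicGeometry.Etale.of_comp a.left U₀.hom
  refine ⟨h.affine, indE_cancel (indE_of_etale ((ProEtS.eps X).map a).left) ?_⟩
  rw [← appTop_comp]
  exact h.indE

theorem exists_wc_cover_good {U : X.ProEt} {r : U ⟶ (ProEtS.eps X).obj U₀} (h : Good r) :
    ∃ (V : X.ProEt) (p : V ⟶ U), Surjective p.left ∧ ProEtS.IsWC V ∧ Good (p ≫ r) := by
  haveI := h.affine
  obtain ⟨D, iD, instD, hff, hD, hWC⟩ := L27.WContractible.exists_cover Γ(U.left, ⊤)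
  let φ : Γ(U.left, ⊤) ⟶ CommRingCat.of D := CommRingCat.ofHom (algebraMap _ D)
  haveI : WeaklyEtale (Spec.map φ) := (Groth.L20.weaklyEtale_specMap_iff φ).mpr (by
    have e : φ.hom.toAlgebra = instD := Algebra.algebra_ext _ _ fun r => rfl
    rw [e]
    exact L27.IndEtale.weaklyEtale _ D hD)
  haveI : Surjective (Spec.map φ) :=
    ⟨fun x => PrimeSpectrum.comap_surjective_of_faithfullyFlat (A := Γ(U.left, ⊤)) (B := D) x⟩
  let f : Spec (CommRingCat.of D) ⟶ U.left := Spec.map φ ≫ U.left.isoSpec.inv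
  haveI : IsAffine (L27.ProEt.mkOver f).left := inferInstanceAs (IsAffine (Spec _))
  refine ⟨L27.ProEt.mkOver f, L27.ProEt.mkOverMap f, inferInstanceAs (Surjective f),
    L27.ProEt.isWC_of_isWContractible (L27.ProEt.isWContractible_of_ringEquiv
      (Scheme.ΓSpecIso (CommRingCat.of D)).symm.commRingCatIsoToRingEquiv hWC), ⟨inferInstance, ?_⟩⟩
  rw [appTop_comp]
  refine indE_comp h.indE ?_
  show IndE f.appTop
  rw [show f.appTop = U.left.isoSpec.inv.appTop ≫ (Spec.map φ).appTop from Scheme.Hom.comp_appTop _ _]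
  refine indE_comp (indE_appTop_of_iso _) ?_
  haveI : IndE.RespectsIso := inferInstance
  exact (MorphismProperty.arrow_mk_iso_iff IndE (arrowIsoΓSpecOfIsAffine φ)).1 ((L27.IndEtale.isIndEtale_iff _ D).1 hD)

theorem good_pullback {A V U : X.ProEt} {a : A ⟶ U} {p : V ⟶ U}
    {rA : A ⟶ (ProEtS.eps X).obj U₀} {rV : V ⟶ (ProEtS.eps X).obj U₀} {rU : U ⟶ (ProEtS.eps X).obj U₀}
    (hA : Good rA) (hV : Good rV) (hU : Good rU) (ha : a ≫ rU = rA) (hp : p ≫ rU = rV) :
    Good (pullback.fst a p ≫ rA) := by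
  haveI := hA.affine
  haveI := hV.affine
  haveI := hU.affine
  refine ⟨isAffine_pullback a p, ?_⟩
  rw [appTop_comp]
  refine indE_comp hA.indE ?_
  haveI : IsAffine ((Scheme.ProEt.forget X ⋙ Over.forget X).obj A) := hA.affine
  haveI : IsAffine ((Scheme.ProEt.forget X ⋙ Over.forget X).obj V) := hV.affine
  haveI : IsAffine ((Scheme.ProEt.forget X ⋙ Over.forget X).obj U) := hU.affine
  exact indE_of_isPullback ((IsPullback.of_hasPullback a p).map (Scheme.ProEt.forget X ⋙ Over.forget X)).flip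
    (indE_of_good hV hU p hp)

/-- presentation by affine étale objects -/
theorem exists_pres {W : X.ProEt} {r : W ⟶ (ProEtS.eps X).obj U₀} (h : Good r) :
    ∃ (I : Type u) (_ : SmallCategory I) (_ : IsCofiltered I) (D : I ⥤ X.Etale)
      (a : D ⟶ (Functor.const I).obj U₀) (π : (Functor.const I).obj W ⟶ D ⋙ ProEtS.eps X),
      (∀ i, IsAffine (D.obj i).left) ∧ (∀ i, π.app i ≫ (ProEtS.eps X).map (a.app i) = r) ∧
        Nonempty (IsLimit ((Scheme.ProEt.forget X ⋙ Over.forget X).mapCone (Cone.mk W π))) := by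
  haveI := h.affine
  haveI : IsAffine ((ProEtS.eps X).obj U₀).left := ‹IsAffine U₀.left›
  let A : CommRingCat.{u} := Γ(U₀.left, ⊤)
  let φ : A ⟶ Γ(W.left, ⊤) := r.left.appTop
  letI := φ.hom.toAlgebra
  obtain ⟨J, hJ₁, hJ₂, D, cc, hcc, het, ⟨e⟩⟩ := (indE_algebraMap φ).2 h.indE
  haveI : AlgebraicGeometry.Etale U₀.hom := U₀.prop
  let ι : Spec A ⟶ U₀.left := U₀.left.isoSpec.inv
  let st : J → X.Etale := fun j =>
    haveI : AlgebraicGeometry.Etale (Spec.map (D.obj j).hom) :=
      (HasRingHomProperty.Spec_iff (P := @AlgebraicGeometry.Etale)).mpr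
        (by
          letI := (D.obj j).hom.hom.toAlgebra
          exact RingHom.etale_algebraMap.mpr (het j))
    Scheme.Etale.mk (Spec.map (D.obj j).hom ≫ ι ≫ U₀.hom)
  have hst : ∀ {i j : J} (f : i ⟶ j), Spec.map (D.map f).right ≫ Spec.map (D.obj i).hom = Spec.map (D.obj j).hom :=
    fun f => (Spec.map_comp _ _).symm.trans (congrArg Spec.map (Under.w (D.map f)))
  let E : Jᵒᵖ ⥤ X.Etale :=
    { obj := fun j => st j.unop
      map := fun {i j} f => MorphismProperty.Over.homMk (Spec.map (D.map f.unop).right)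
        ((Category.assoc _ _ _).symm.trans (congrArg (fun k => k ≫ ι ≫ U₀.hom) (hst f.unop)))
      map_id := fun i => MorphismProperty.Over.Hom.ext (by
        show Spec.map (D.map (𝟙 i.unop)).right = 𝟙 _
        rw [D.map_id]; exact Spec.map_id _)
      map_comp := fun f g => MorphismProperty.Over.Hom.ext (by
        show Spec.map (D.map (g.unop ≫ f.unop)).right = Spec.map _ ≫ Spec.map _
        rw [D.map_comp]; exact Spec.map_comp _ _) }
  let a : E ⟶ (Functor.const Jᵒᵖ).obj U₀ :=
    { app := fun j => MorphismProperty.Over.homMk (Spec.map (D.obj j.unop).hom ≫ ι) (Category.assoc _ _ _)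
      naturality := fun i j f => MorphismProperty.Over.Hom.ext
        (((Category.assoc _ _ _).symm.trans (congrArg (fun k => k ≫ ι) (hst f.unop))).trans (Category.comp_id _).symm) }
  let θ : ∀ j : J, (D.obj j).right ⟶ Γ(W.left, ⊤) := fun j => (cc.ι.app j).right ≫ e.hom.right
  have hθ : ∀ j, (D.obj j).hom ≫ θ j = φ := fun j => by
    have h2 : cc.pt.hom ≫ e.hom.right = φ := Under.w e.hom
    exact (Category.assoc _ _ _).symm.trans ((congrArg (fun k => k ≫ e.hom.right) (Under.w (cc.ι.app j))).trans h2)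
  have hr : W.left.isoSpec.hom ≫ Spec.map φ ≫ ι = r.left := by
    rw [← Category.assoc]
    refine (congrArg (fun k => k ≫ ι) (Scheme.isoSpec_hom_naturality r.left)).trans ?_
    exact (Category.assoc _ _ _).trans ((congrArg (fun k => r.left ≫ k) U₀.left.isoSpec.hom_inv_id).trans (Category.comp_id _))
  have hw : ∀ j, (W.left.isoSpec.hom ≫ Spec.map (θ j)) ≫ Spec.map (D.obj j).hom ≫ ι = r.left := fun j => by
    rw [Category.assoc, ← Category.assoc (Spec.map (θ j)), ← Spec.map_comp, hθ, hr]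
  let π : (Functor.const Jᵒᵖ).obj W ⟶ E ⋙ ProEtS.eps X :=
    { app := fun j => MorphismProperty.Over.homMk (W.left.isoSpec.hom ≫ Spec.map (θ j.unop)) (by
        show (W.left.isoSpec.hom ≫ Spec.map (θ j.unop)) ≫ Spec.map (D.obj j.unop).hom ≫ ι ≫ U₀.hom = W.hom
        rw [← Category.assoc (Spec.map (D.obj j.unop).hom), ← Category.assoc, hw]
        exact MorphismProperty.Over.w r)
      naturality := fun i j g => MorphismProperty.Over.Hom.ext ((Category.id_comp _).trans (by
        show W.left.isoSpec.hom ≫ Spec.map (θ j.unop) =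
          (W.left.isoSpec.hom ≫ Spec.map (θ i.unop)) ≫ Spec.map (D.map g.unop).right
        rw [Category.assoc, ← Spec.map_comp]
        refine congrArg (fun k => W.left.isoSpec.hom ≫ Spec.map k) ?_
        exact (congrArg (fun k : D.obj j.unop ⟶ cc.pt => k.right ≫ e.hom.right) (cc.w g.unop).symm).trans
          (Category.assoc _ _ _))) }
  refine ⟨Jᵒᵖ, inferInstance, inferInstance, E, a, π, fun j => inferInstanceAs (IsAffine (Spec _)),
    fun j => MorphismProperty.Over.Hom.ext (hw j.unop), ⟨?_⟩⟩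
  haveI : IsConnected J := IsFiltered.isConnected J
  let h₀ := isLimitOfPreserves Scheme.Spec (isColimitOfPreserves (Under.forget _) hcc).op
  haveI : IsIso e.hom.right := inferInstanceAs (IsIso ((Under.forget _).map e.hom))
  refine IsLimit.ofIsoLimit h₀ (Cone.ext ((asIso (W.left.isoSpec.hom ≫ Spec.map e.hom.right)).symm) fun j => ?_)
  show Spec.map (cc.ι.app j.unop).right = inv (W.left.isoSpec.hom ≫ Spec.map e.hom.right) ≫
    W.left.isoSpec.hom ≫ Spec.map (θ j.unop)
  rw [IsIso.eq_inv_comp, Category.assoc, ← Spec.map_comp]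

end Groth.L28.ProEt.Cech
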