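import Groth.Agent.L28.ProEt.Cech.Flasque
import Groth.Agent.L27.WContractible
import Groth.Agent.L28.ProEt.Lisse
import Mathlib.CategoryTheory.Limits.Constructions.Over.Connected

/-!
Good objects cover, and base change of limits of étale objects.
-/

set_option autoImplicit false
set_option linter.style.haveILetI false

universe u

open CategoryTheory CategoryTheory.Limits AlgebraicGeometry Opposite

set_option backward.isDefEq.respectTransparency.types false

namespace Groth.L28.ProEt.Cech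

variable {X : Scheme.{u}}

/-- some affine étale object below makes it good -/
def IsGood (W : X.ProEt) : Prop :=
  ∃ (U₀ : X.Etale) (_ : IsAffine U₀.left) (r : W ⟶ (ProEtS.eps X).obj U₀), Good r

theorem exists_good_surjective {A : X.ProEt} [IsAffine A.left] {U₀ : X.Etale} [IsAffine U₀.left]
    (r : A ⟶ (ProEtS.eps X).obj U₀) :
    ∃ (V : X.ProEt) (p : V ⟶ A), Surjective p.left ∧ QuasiCompact p.left ∧ IsGood V := by
  haveI : IsAffine ((ProEtS.eps X).obj U₀).left := ‹IsAffine U₀.left›
  haveI : WeaklyEtale r.left := inferInstance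
  let O : CommRingCat.{u} := Γ(((ProEtS.eps X).obj U₀).left, ⊤)
  let φ : O ⟶ Γ(A.left, ⊤) := r.left.appTop
  letI := φ.hom.toAlgebra
  haveI hwe : WeaklyEtale (Spec.map φ) :=
    (MorphismProperty.arrow_mk_iso_iff @WeaklyEtale (arrowIsoSpecΓOfIsAffine r.left)).1 inferInstance
  haveI : Algebra.WeaklyEtale ↥O ↥Γ(A.left, ⊤) := (Groth.L20.weaklyEtale_specMap_iff φ).1 hwe
  obtain ⟨B', _, instB, instA, htow, hff, hB, hA⟩ := L27.WContractible.exists_indEtale_enlargement ↥O ↥Γ(A.left, ⊤)
    (L27.WContractible.algebraicResidueExtensions _ _)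
  let ψ : Γ(A.left, ⊤) ⟶ CommRingCat.of B' := CommRingCat.ofHom (algebraMap _ B')
  haveI : WeaklyEtale (Spec.map ψ) := (Groth.L20.weaklyEtale_specMap_iff ψ).mpr (by
    have e : ψ.hom.toAlgebra = instB := Algebra.algebra_ext _ _ fun r => rfl
    rw [e]
    exact L27.IndEtale.weaklyEtale _ B' hB)
  haveI : Surjective (Spec.map ψ) :=
    ⟨fun x => PrimeSpectrum.comap_surjective_of_faithfullyFlat (A := Γ(A.left, ⊤)) (B := B') x⟩
  let f : Spec (CommRingCat.of B') ⟶ A.left := Spec.map ψ ≫ A.left.isoSpec.inv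
  haveI : IsAffine (L27.ProEt.mkOver f).left := inferInstanceAs (IsAffine (Spec _))
  refine ⟨L27.ProEt.mkOver f, L27.ProEt.mkOverMap f, inferInstanceAs (Surjective f),
    inferInstanceAs (QuasiCompact f), U₀, ‹_›, L27.ProEt.mkOverMap f ≫ r, inferInstance, ?_⟩
  show IndE (f ≫ r.left).appTop
  haveI : IndE.RespectsIso := inferInstance
  have h2 : IndE (φ ≫ ψ) := by
    have e : (φ ≫ ψ).hom.toAlgebra = instA := Algebra.algebra_ext _ _ fun x =>
      (IsScalarTower.algebraMap_apply ↥O ↥Γ(A.left, ⊤) B' x).symm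
    refine (indE_algebraMap (φ ≫ ψ)).1 ?_
    rw [e]
    exact hA
  have h3 : f ≫ r.left = Spec.map (φ ≫ ψ) ≫ ((ProEtS.eps X).obj U₀).left.isoSpec.inv := by
    rw [Spec.map_comp, Category.assoc, Category.assoc]
    exact congrArg _ (Scheme.isoSpec_inv_naturality r.left).symm
  rw [h3, Scheme.Hom.comp_appTop]
  exact indE_comp (indE_appTop_of_iso _)
    ((MorphismProperty.arrow_mk_iso_iff IndE (arrowIsoΓSpecOfIsAffine (φ ≫ ψ))).1 h2)

/-- maps factoring through good objects -/
noncomputable def goodSieve (U : X.ProEt) : Sieve U :=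
  Sieve.generate fun W (_ : W ⟶ U) => IsGood W

theorem goodSieve_mem (U : X.ProEt) : goodSieve U ∈ Scheme.ProEt.topology X U := by
  have hO : ∀ x : U.left, ∃ O : X.Opens, IsAffineOpen O ∧ U.hom x ∈ O := fun x => by
    obtain ⟨O, hO, hx, -⟩ := exists_isAffineOpen_mem_and_subset (U := (⊤ : X.Opens)) (TopologicalSpace.Opens.mem_top (U.hom x))
    exact ⟨O, hO, hx⟩
  choose O hO hxO using hO
  have hW : ∀ x : U.left, ∃ W : U.left.Opens, IsAffineOpen W ∧ x ∈ W ∧ W ≤ U.hom ⁻¹ᵁ O x := fun x => by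
    obtain ⟨W, hW, hx, hle⟩ := exists_isAffineOpen_mem_and_subset (U := U.hom ⁻¹ᵁ O x) (x := x) (hxO x)
    exact ⟨W, hW, hx, hle⟩
  choose W hW hxW hle using hW
  refine (Scheme.ProEt.topology X).transitive
    (L27.ProEt.ofArrows_mkOpenHom_mem W (Set.eq_univ_of_forall fun x => Set.mem_iUnion.2 ⟨x, hxW x⟩)) _ ?_
  rintro Y f ⟨_, a, _, ⟨x⟩, rfl⟩
  rw [Sieve.pullback_comp]
  refine (Scheme.ProEt.topology X).pullback_stable a ?_
  let U₀ : X.Etale := Scheme.Etale.mk (O x).ι
  haveI : IsAffine U₀.left := hO x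
  haveI : IsAffine (L27.ProEt.mkOpen U (W x)).left := hW x
  let r : L27.ProEt.mkOpen U (W x) ⟶ (ProEtS.eps X).obj U₀ :=
    MorphismProperty.Over.homMk (U.hom.resLE (O x) (W x) (hle x)) (Scheme.Hom.resLE_comp_ι _ _) trivial
  obtain ⟨V, p, hs, hq, hV⟩ := exists_good_surjective r
  refine GrothendieckTopology.superset_covering _ ?_
    (L27.ProEt.generate_ofArrows_mem_of_quasiCompact (U := L27.ProEt.mkOpen U (W x)) (fun _ : PUnit.{u + 1} => V)
      (fun _ => p) fun z => ⟨PUnit.unit, p.left.surjective z⟩)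
  rw [Sieve.generate_le_iff, Presieve.ofArrows_le_iff]
  intro _
  exact Sieve.le_generate _ _ _ hV

variable {A : ProEtS.AbP X}

/-- vanishing is checked on good objects -/
theorem eq_zero_of_good {U : X.ProEt} (x : A.obj.obj (op U))
    (h : ∀ (W : X.ProEt) (g : W ⟶ U), IsGood W → rs A g x = 0) : x = 0 := by
  have hA := (isSheaf_iff_isSheaf_of_type _ _).mp
    ((sheafCompose (Scheme.ProEt.topology X) (forget AddCommGrpCat.{u + 1})).obj A).property
  refine (hA _ (goodSieve_mem U)).isSeparatedFor.ext ?_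
  rintro Z f ⟨W, a, g, hW, rfl⟩
  show rs A (a ≫ g) x = rs A (a ≫ g) 0
  rw [rs_comp, rs_comp, h W g hW]
  exact (congrArg (rs A a) (map_zero (A.obj.map g.op).hom).symm)

variable {B : ProEtS.AbP X} (θ : A ⟶ B)

theorem mono_of_good (h : ∀ W, IsGood W → ∀ x : A.obj.obj (op W), θ.hom.app (op W) x = 0 → x = 0) : Mono θ := by
  haveI : ∀ U, Mono (θ.hom.app U) := fun U => by
    refine (AddCommGrpCat.mono_iff_injective _).2 ((injective_iff_map_eq_zero _).2 fun x hx => ?_)
    refine eq_zero_of_good x fun W g hW => h W hW _ ?_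
    exact (rs_natural θ g x).trans ((congrArg _ hx).trans (map_zero _))
  haveI : Mono θ.hom := NatTrans.mono_of_mono_app _
  exact (sheafToPresheaf _ _).mono_of_mono_map ‹Mono θ.hom›

theorem epi_of_good (h : ∀ W, IsGood W → Function.Surjective (θ.hom.app (op W))) : Epi θ := by
  refine (Sheaf.isLocallySurjective_iff_epi' AddCommGrpCat.{u + 1} θ).mp ⟨fun {U} x => ?_⟩
  refine GrothendieckTopology.superset_covering _ ?_ (goodSieve_mem U)
  rw [goodSieve, Sieve.generate_le_iff]
  intro W g hW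
  exact h W hW (rs B g x)

theorem isIso_of_good (h : ∀ W, IsGood W → Function.Bijective (θ.hom.app (op W))) : IsIso θ := by
  haveI := mono_of_good θ fun W hW x hx => (h W hW).1 (hx.trans (map_zero _).symm)
  haveI := epi_of_good θ fun W hW => (h W hW).2
  exact isIso_of_mono_of_epi θ

section BaseChange

variable {Y : Scheme.{u}} (f : X ⟶ Y) {I : Type u} [SmallCategory I] [IsCofiltered I] {D : I ⥤ Y.Etale}
  {W : Y.ProEt} (π : (Functor.const I).obj W ⟶ D ⋙ ProEtS.eps Y)

/-- the base change of a cone -/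
noncomputable def bcCone : (Functor.const I).obj ((ProEtS.bcP f).obj W) ⟶ (D ⋙ EtCoh.bc f) ⋙ ProEtS.eps X where
  app i := (ProEtS.bcP f).map (π.app i) ≫ (epsBc f).hom.app (D.obj i)
  naturality i j g := by
    refine (Category.id_comp _).trans ?_
    have h1 : π.app j = π.app i ≫ (ProEtS.eps Y).map (D.map g) := (Category.id_comp _).symm.trans (π.naturality g)
    refine (congrArg (fun k => (ProEtS.bcP f).map k ≫ _) h1).trans ?_
    refine (congrArg (fun k => k ≫ _) ((ProEtS.bcP f).map_comp _ _)).trans ?_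
    refine (Category.assoc _ _ _).trans (Eq.trans ?_ (Category.assoc _ _ _).symm)
    exact congrArg _ ((epsBc f).hom.naturality (D.map g))

omit [IsCofiltered I] in
theorem bcCone_left (i : I) : ((bcCone f π).app i).left = ((ProEtS.bcP f).map (π.app i)).left := by
  exact Category.comp_id _

/-- base change preserves the limits -/
theorem nonempty_isLimit_bcCone (hl : IsLimit ((sch Y).mapCone (Cone.mk W π))) :
    Nonempty (IsLimit ((sch X).mapCone (Cone.mk ((ProEtS.bcP f).obj W) (bcCone f π)))) := by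
  haveI : IsConnected I := IsCofiltered.isConnected I
  let h₁ : IsLimit ((Scheme.ProEt.forget Y).mapCone (Cone.mk W π)) := isLimitOfReflects (Over.forget Y) hl
  let h₂ := isLimitOfPreserves (Over.pullback f ⋙ Over.forget X) h₁
  let e : ((D ⋙ ProEtS.eps Y) ⋙ Scheme.ProEt.forget Y) ⋙ (Over.pullback f ⋙ Over.forget X) ≅
      ((D ⋙ EtCoh.bc f) ⋙ ProEtS.eps X) ⋙ sch X :=
    NatIso.ofComponents (fun i => Iso.refl _) fun g => (Category.comp_id _).trans (Category.id_comp _).symm
  refine ⟨(IsLimit.postcomposeHomEquiv e _).symm h₂ |>.ofIsoLimit (Cone.ext (Iso.refl _) fun i => ?_)⟩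
  exact (Category.comp_id _).trans ((bcCone_left f π i).symm.trans (Category.id_comp _).symm)

omit [IsCofiltered I] in
theorem stage_affine_transitions (haff : ∀ i, IsAffine (D.obj i).left) (i j : I) (g : i ⟶ j) :
    IsAffineHom ((D ⋙ EtCoh.bc f).map g).left := by
  haveI := haff i
  haveI := haff j
  haveI : IsAffineHom (D.map g).left := inferInstance
  exact MorphismProperty.of_isPullback (EtCoh.isPullback_bc_map f (D.map g)).flip this

theorem stage_compact [QuasiCompact f] (U : Y.Etale) [IsAffine U.left] : CompactSpace ((EtCoh.bc f).obj U).left := by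
  let q : ((EtCoh.bc f).obj U).left ⟶ U.left := pullback.fst U.hom f
  haveI : QuasiCompact q := MorphismProperty.pullback_fst _ _ ‹QuasiCompact f›
  exact QuasiCompact.compactSpace_of_compactSpace q

theorem stage_quasiSeparated [QuasiSeparated f] (U : Y.Etale) [IsAffine U.left] :
    QuasiSeparatedSpace ((EtCoh.bc f).obj U).left := by
  let q : ((EtCoh.bc f).obj U).left ⟶ U.left := pullback.fst U.hom f
  haveI : QuasiSeparated q := MorphismProperty.pullback_fst _ _ ‹QuasiSeparated f›
  exact quasiSeparatedSpace_of_quasiSeparated q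

end BaseChange

theorem isLimEt_bcP {Y : Scheme.{u}} (f : X ⟶ Y) [QuasiCompact f] [QuasiSeparated f] {W : Y.ProEt}
    (hW : IsGood W) : IsLimEt ((ProEtS.bcP f).obj W) := by
  obtain ⟨U₀, _, r, hr⟩ := hW
  obtain ⟨I, _, _, D, a, π, haff, hπ, ⟨hl⟩⟩ := exists_pres hr
  exact ⟨I, inferInstance, inferInstance, D ⋙ EtCoh.bc f, bcCone f π,
    fun i => haveI := haff i; stage_compact f (D.obj i), fun i => haveI := haff i; stage_quasiSeparated f (D.obj i),
    stage_affine_transitions f haff, nonempty_isLimit_bcCone f π hl⟩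

end Groth.L28.ProEt.Cech
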