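import Groth.Agent.L28.ProEt.Cech.Basic
import Mathlib.CategoryTheory.Filtered.Basic

/-!
Nerves commute with cofiltered limits; Čech cohomology of a presheaf commuting with such limits.
-/

set_option autoImplicit false
set_option linter.style.haveILetI false

universe w v u v' u' v'' u'' t

open CategoryTheory CategoryTheory.Limits Opposite

namespace Groth.L28.ProEt.Cech

open Groth.L10 (Nerve.N Nerve.δ Nerve.pr Nerve.bs Nerve.pr_w Nerve.δ_pr)

variable {C : Type u} [Category.{v} C] [HasFiniteWidePullbacks C]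

section Map

variable {V U V' U' : C} {p : V ⟶ U} {p' : V' ⟶ U'} (a : V ⟶ V') (b : U ⟶ U') (h : a ≫ p' = p ≫ b)

/-- functoriality of the nerve -/
noncomputable def mapN (n : ℕ) : Nerve.N p n ⟶ Nerve.N p' n :=
  WidePullback.lift (Nerve.bs p n ≫ b) (fun k => Nerve.pr p k ≫ a) fun k => by
    refine (Category.assoc _ _ _).trans ?_
    rw [show a ≫ (Arrow.mk p').hom = p ≫ b from h, ← Category.assoc, Nerve.pr_w]

theorem mapN_pr {n : ℕ} (k : Fin (n + 1)) : mapN a b h n ≫ Nerve.pr p' k = Nerve.pr p k ≫ a :=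
  WidePullback.lift_π _ _ _ _ _

theorem mapN_bs (n : ℕ) : mapN a b h n ≫ Nerve.bs p' n = Nerve.bs p n ≫ b := WidePullback.lift_base _ _ _ _

theorem mapN_δ (n : ℕ) (j : Fin (n + 2)) :
    mapN a b h (n + 1) ≫ Nerve.δ p' j = Nerve.δ p j ≫ mapN a b h n :=
  Groth.L10.Nerve.hom_ext p' fun i => by
    rw [Category.assoc, Nerve.δ_pr, mapN_pr, Category.assoc, mapN_pr, ← Category.assoc, Nerve.δ_pr]

end Map

variable {I : Type t} [Category I] {DV DU : I ⥤ C} (q : DV ⟶ DU)

/-- the nerves of a diagram of morphisms -/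
noncomputable def diagN (n : ℕ) : I ⥤ C where
  obj i := Nerve.N (q.app i) n
  map f := mapN (DV.map f) (DU.map f) (q.naturality f) n
  map_id i := Groth.L10.Nerve.hom_ext _ fun k => by rw [mapN_pr, DV.map_id, Category.comp_id, Category.id_comp]
  map_comp f g := Groth.L10.Nerve.hom_ext _ fun k => by
    rw [mapN_pr, DV.map_comp, Category.assoc, mapN_pr, ← Category.assoc, ← Category.assoc, mapN_pr]

variable (cV : Cone DV) (cU : Cone DU) (p : cV.pt ⟶ cU.pt) (hp : ∀ i, cV.π.app i ≫ q.app i = p ≫ cU.π.app i)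

/-- the nerve of the limit morphism as a cone -/
noncomputable def coneN (n : ℕ) : Cone (diagN q n) where
  pt := Nerve.N p n
  π :=
    { app := fun i => mapN (cV.π.app i) (cU.π.app i) (hp i) n
      naturality := fun i j f => (Category.id_comp _).trans <| Groth.L10.Nerve.hom_ext _ fun k => by
        show mapN (cV.π.app j) (cU.π.app j) (hp j) n ≫ Nerve.pr (q.app j) k =
          (mapN (cV.π.app i) (cU.π.app i) (hp i) n ≫ mapN (DV.map f) (DU.map f) (q.naturality f) n) ≫ Nerve.pr (q.app j) k
        rw [mapN_pr, Category.assoc, mapN_pr, ← Category.assoc, mapN_pr, Category.assoc, cV.w] }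

section Lim

variable {E : Type u'} [Category.{v'} E] (G : C ⥤ E) [∀ n : ℕ, PreservesLimitsOfShape (WidePullbackShape (Fin n)) G]

theorem G_hom_ext {V U : C} (p : V ⟶ U) {n : ℕ} {Q : E} {a b : Q ⟶ G.obj (Nerve.N p n)}
    (h : ∀ k : Fin (n + 1), a ≫ G.map (Nerve.pr p k) = b ≫ G.map (Nerve.pr p k)) : a = b := by
  refine (isLimitOfPreserves G (limit.isLimit (WidePullbackShape.wideCospan _ _ fun _ : Fin (n + 1) => (Arrow.mk p).hom))).hom_ext ?_
  rintro (_ | k)
  · have e : Nerve.bs p n = Nerve.pr p (0 : Fin (n + 1)) ≫ p := (Nerve.pr_w p _).symm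
    show a ≫ G.map (Nerve.bs p n) = b ≫ G.map (Nerve.bs p n)
    rw [e, G.map_comp, ← Category.assoc, ← Category.assoc, h]
  · exact h k

theorem G_exists_lift {V U : C} (p : V ⟶ U) {n : ℕ} {Q : E} (b : Q ⟶ G.obj U) (a : Fin (n + 1) → (Q ⟶ G.obj V))
    (h : ∀ k, a k ≫ G.map p = b) : ∃ l : Q ⟶ G.obj (Nerve.N p n), ∀ k, l ≫ G.map (Nerve.pr p k) = a k := by
  let c : Cone (WidePullbackShape.wideCospan _ _ (fun _ : Fin (n + 1) => (Arrow.mk p).hom) ⋙ G) :=
    { pt := Q
      π :=
        { app := fun o => match o with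
            | none => b
            | some k => a k
          naturality := by
            rintro _ _ (_ | k)
            · refine (Category.id_comp _).trans ?_
              exact ((congrArg (fun m => _ ≫ m) (G.map_id _)).trans (Category.comp_id _)).symm
            · exact (Category.id_comp _).trans (h k).symm } }
  exact ⟨(isLimitOfPreserves G (limit.isLimit _)).lift c, fun k => (isLimitOfPreserves G (limit.isLimit _)).fac c (some k)⟩

/-- nerves commute with limits -/
theorem nonempty_isLimit_coneN (hV : IsLimit (G.mapCone cV)) (hU : IsLimit (G.mapCone cU)) (n : ℕ) :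
    Nonempty (IsLimit (G.mapCone (coneN q cV cU p hp n))) := by
  let sV : ∀ (s : Cone (diagN q n ⋙ G)) (_ : Fin (n + 1)), Cone (DV ⋙ G) := fun s k =>
    { pt := s.pt
      π :=
        { app := fun i => s.π.app i ≫ G.map (Nerve.pr (q.app i) k)
          naturality := fun i j f => (Category.id_comp _).trans (by
            refine (congrArg (fun m => m ≫ G.map (Nerve.pr (q.app j) k)) (s.w f).symm).trans ?_
            refine (Category.assoc _ _ _).trans (Eq.trans ?_ (Category.assoc _ _ _).symm)
            refine congrArg (fun m => s.π.app i ≫ m) ?_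
            exact (G.map_comp _ _).symm.trans ((congrArg G.map (mapN_pr (DV.map f) (DU.map f) (q.naturality f) k)).trans (G.map_comp _ _))) } }
  let sU : ∀ (_ : Cone (diagN q n ⋙ G)), Cone (DU ⋙ G) := fun s =>
    { pt := s.pt
      π :=
        { app := fun i => s.π.app i ≫ G.map (Nerve.bs (q.app i) n)
          naturality := fun i j f => (Category.id_comp _).trans (by
            refine (congrArg (fun m => m ≫ G.map (Nerve.bs (q.app j) n)) (s.w f).symm).trans ?_
            refine (Category.assoc _ _ _).trans (Eq.trans ?_ (Category.assoc _ _ _).symm)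
            refine congrArg (fun m => s.π.app i ≫ m) ?_
            exact (G.map_comp _ _).symm.trans ((congrArg G.map (mapN_bs (DV.map f) (DU.map f) (q.naturality f) n)).trans (G.map_comp _ _))) } }
  have hcomp : ∀ s k, hV.lift (sV s k) ≫ G.map p = hU.lift (sU s) := by
    intro s k
    refine hU.hom_ext fun i => ?_
    rw [Category.assoc, hU.fac (sU s) i]
    refine (congrArg (fun m => hV.lift (sV s k) ≫ m) ((G.map_comp p (cU.π.app i)).symm.trans
      ((congrArg G.map (hp i)).symm.trans (G.map_comp _ _)))).trans ?_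
    refine (Category.assoc _ _ _).symm.trans ((congrArg (fun m => m ≫ G.map (q.app i)) (hV.fac (sV s k) i)).trans ?_)
    refine (Category.assoc _ _ _).trans (congrArg (fun m => s.π.app i ≫ m) ?_)
    exact (G.map_comp _ _).symm.trans (congrArg G.map (Nerve.pr_w _ k))
  choose l hl using fun s => G_exists_lift G p (hU.lift (sU s)) (fun k => hV.lift (sV s k)) (hcomp s)
  refine ⟨{ lift := l, fac := fun s i => ?_, uniq := fun s m hm => ?_ }⟩
  · refine G_hom_ext G (q.app i) fun k => ?_
    refine (Category.assoc _ _ _).trans ((congrArg (fun m => l s ≫ m) ((G.map_comp _ _).symm.trans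
      ((congrArg G.map (mapN_pr (cV.π.app i) (cU.π.app i) (hp i) k)).trans (G.map_comp _ _)))).trans ?_)
    refine (Category.assoc _ _ _).symm.trans ((congrArg (fun m => m ≫ G.map (cV.π.app i)) (hl s k)).trans ?_)
    exact hV.fac (sV s k) i
  · refine G_hom_ext G p fun k => ?_
    refine Eq.trans ?_ (hl s k).symm
    refine hV.hom_ext fun i => Eq.trans ?_ (hV.fac (sV s k) i).symm
    refine (Category.assoc _ _ _).trans ((congrArg (fun x => m ≫ x) ((G.map_comp _ _).symm.trans
      ((congrArg G.map (mapN_pr (cV.π.app i) (cU.π.app i) (hp i) k).symm).trans (G.map_comp _ _)))).trans ?_)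
    exact (Category.assoc _ _ _).symm.trans (congrArg (fun x => x ≫ G.map (Nerve.pr (q.app i) k)) (hm i))

end Lim

/-- Čech cohomology commutes with cofiltered limits for presheaves which do so -/
theorem acyclic_of_stages (P : Cᵒᵖ ⥤ AddCommGrpCat.{w})
    (hs : ∀ (n : ℕ) (x : P.obj (op (Nerve.N p n))), ∃ (i : I) (y : P.obj (op ((diagN q n).obj i))),
      res P ((coneN q cV cU p hp n).π.app i) y = x)
    (hz : ∀ (n : ℕ) (i : I) (y : P.obj (op ((diagN q n).obj i))), res P ((coneN q cV cU p hp n).π.app i) y = 0 →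
      ∃ (j : I) (f : j ⟶ i), res P ((diagN q n).map f) y = 0)
    (h : ∀ i, Acyclic (q.app i) P) : Acyclic p P := by
  intro n x hx
  obtain ⟨i, y, rfl⟩ := hs (n + 1) x
  have e : ∀ i' (m : ℕ) (z : P.obj (op ((diagN q m).obj i'))),
      res P ((coneN q cV cU p hp (m + 1)).π.app i') (d (q.app i') P m z) =
        d p P m (res P ((coneN q cV cU p hp m).π.app i') z) := fun i' m z =>
    d_map p (q.app i') P (fun k => mapN (cV.π.app i') (cU.π.app i') (hp i') k) (mapN_δ _ _ _) m z
  obtain ⟨j, f, hf⟩ := hz (n + 2) i (d (q.app i) P (n + 1) y) ((e i (n + 1) y).trans hx)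
  have e' : ∀ (m : ℕ) (z : P.obj (op ((diagN q m).obj i))),
      res P ((diagN q (m + 1)).map f) (d (q.app i) P m z) = d (q.app j) P m (res P ((diagN q m).map f) z) := fun m z =>
    d_map (q.app j) (q.app i) P (fun k => mapN (DV.map f) (DU.map f) (q.naturality f) k) (mapN_δ _ _ _) m z
  obtain ⟨z, hz'⟩ := h j n (res P ((diagN q (n + 1)).map f) y) ((e' (n + 1) y).symm.trans hf)
  refine ⟨res P ((coneN q cV cU p hp n).π.app j) z, (e j n z).symm.trans ?_⟩
  refine (congrArg (res P ((coneN q cV cU p hp (n + 1)).π.app j)) hz').trans ?_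
  exact (res_res P _ _ y).trans (congrArg (fun g => res P g y) ((coneN q cV cU p hp (n + 1)).w f))

/-- transport along a functor preserving the nerves -/
theorem acyclic_map {D : Type u''} [Category.{v''} D] [HasFiniteWidePullbacks D] (F : C ⥤ D)
    [∀ n : ℕ, PreservesLimitsOfShape (WidePullbackShape (Fin n)) F] {V U : C} (p : V ⟶ U)
    (P : Dᵒᵖ ⥤ AddCommGrpCat.{w}) (h : Acyclic p (F.op ⋙ P)) : Acyclic (F.map p) P := by
  have hc : ∀ m, ∃ l : Nerve.N (F.map p) m ⟶ F.obj (Nerve.N p m),
      (∀ k, l ≫ F.map (Nerve.pr p k) = Nerve.pr (F.map p) k) := fun m =>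
    G_exists_lift F p (Nerve.bs (F.map p) m) (fun k => Nerve.pr (F.map p) k) (fun k => Nerve.pr_w _ k)
  choose μ hμ using hc
  let ν : ∀ m, F.obj (Nerve.N p m) ⟶ Nerve.N (F.map p) m := fun m =>
    WidePullback.lift (F.map (Nerve.bs p m)) (fun k => F.map (Nerve.pr p k)) fun k =>
      (F.map_comp _ _).symm.trans (congrArg F.map (Nerve.pr_w p k))
  have hν : ∀ m (k : Fin (m + 1)), ν m ≫ Nerve.pr (F.map p) k = F.map (Nerve.pr p k) := fun m k =>
    WidePullback.lift_π _ _ _ _ _
  have h₁ : ∀ m, ν m ≫ μ m = 𝟙 _ := fun m => G_hom_ext F p fun k => by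
    rw [Category.assoc, hμ, hν, Category.id_comp]
  have h₂ : ∀ m, μ m ≫ ν m = 𝟙 _ := fun m => Groth.L10.Nerve.hom_ext _ fun k => by
    rw [Category.assoc, hν, hμ, Category.id_comp]
  have hμδ : ∀ m (j : Fin (m + 2)), μ (m + 1) ≫ F.map (Nerve.δ p j) = Nerve.δ (F.map p) j ≫ μ m := fun m j =>
    G_hom_ext F p fun k => by
      rw [Category.assoc, ← F.map_comp, Nerve.δ_pr, hμ, Category.assoc, hμ, Nerve.δ_pr]
  have hνδ : ∀ m (j : Fin (m + 2)), ν (m + 1) ≫ Nerve.δ (F.map p) j = F.map (Nerve.δ p j) ≫ ν m := fun m j =>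
    Groth.L10.Nerve.hom_ext _ fun k => by
      rw [Category.assoc, Nerve.δ_pr, hν, Category.assoc, hν, ← F.map_comp, Nerve.δ_pr]
  have key : ∀ m (z : P.obj (op (F.obj (Nerve.N p m)))),
      res P (μ (m + 1)) (d p (F.op ⋙ P) m z) = d (F.map p) P m (res P (μ m) z) := by
    intro m z
    simp only [d_apply, map_sum, map_zsmul]
    exact Finset.sum_congr rfl fun j _ => congrArg _ ((res_res P _ _ z).trans
      ((congrArg (fun g => res P g z) (hμδ m j)).trans (res_res P _ _ z).symm))
  intro n x hx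
  have key' : res P (ν (n + 2)) (d (F.map p) P (n + 1) x) = d p (F.op ⋙ P) (n + 1) (res P (ν (n + 1)) x) := by
    simp only [d_apply, map_sum, map_zsmul]
    exact Finset.sum_congr rfl fun j _ => congrArg _ ((res_res P _ _ x).trans
      ((congrArg (fun g => res P g x) (hνδ (n + 1) j)).trans (res_res P _ _ x).symm))
  obtain ⟨y, hy⟩ := h n (res P (ν (n + 1)) x) (by rw [← key', hx]; exact map_zero _)
  refine ⟨res P (μ n) y, (key n y).symm.trans ((congrArg (res P (μ (n + 1))) hy).trans ?_)⟩
  rw [res_res, h₂]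
  exact ConcreteCategory.congr_hom (P.map_id _) x

end Groth.L28.ProEt.Cech
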