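import Groth.Agent.L28.ProEt.Cech.Vanish
import Mathlib.AlgebraicGeometry.AffineTransitionLimit

/-!
Quasi-compact quasi-separated limits of étale objects on the pro-étale site.
-/

set_option autoImplicit false
set_option linter.style.haveILetI false

universe u

open CategoryTheory CategoryTheory.Limits AlgebraicGeometry Opposite

set_option backward.isDefEq.respectTransparency.types false

namespace Groth.L28.ProEt.Cech

variable {X : Scheme.{u}}

/-- the underlying scheme -/
abbrev sch (X : Scheme.{u}) : X.ProEt ⥤ Scheme.{u} := Scheme.ProEt.forget X ⋙ Over.forget X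

/-- an open subobject of an étale object -/
noncomputable def mkOpenEt (U : X.Etale) (W : U.left.Opens) : X.Etale :=
  haveI : AlgebraicGeometry.Etale U.hom := U.prop
  Scheme.Etale.mk (W.ι ≫ U.hom)

/-- its inclusion -/
noncomputable def mkOpenEtHom (U : X.Etale) (W : U.left.Opens) : mkOpenEt U W ⟶ U :=
  MorphismProperty.Over.homMk W.ι rfl

/-- quasi-compact quasi-separated limits of étale objects -/
def IsLimEt (T : X.ProEt) : Prop :=
  ∃ (I : Type u) (_ : SmallCategory I) (_ : IsCofiltered I) (D : I ⥤ X.Etale)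
    (π : (Functor.const I).obj T ⟶ D ⋙ ProEtS.eps X),
    (∀ i, CompactSpace (D.obj i).left) ∧ (∀ i, QuasiSeparatedSpace (D.obj i).left) ∧
      (∀ (i j : I) (f : i ⟶ j), IsAffineHom (D.map f).left) ∧
        Nonempty (IsLimit ((sch X).mapCone (Cone.mk T π)))

theorem isLimEt_of_iso {T T' : X.ProEt} (e : T' ≅ T) (h : IsLimEt T) : IsLimEt T' := by
  obtain ⟨I, _, _, D, π, h₁, h₂, h₃, ⟨hl⟩⟩ := h
  refine ⟨I, inferInstance, inferInstance, D, (Functor.const I).map e.hom ≫ π, h₁, h₂, h₃,
    ⟨IsLimit.ofIsoLimit hl (Cone.ext ((sch X).mapIso e).symm fun i => ?_)⟩⟩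
  show (sch X).map (π.app i) = (sch X).map e.inv ≫ (sch X).map (e.hom ≫ π.app i)
  rw [← (sch X).map_comp, Iso.inv_hom_id_assoc]

theorem isLimEt_eps (U : X.Etale) [CompactSpace U.left] [QuasiSeparatedSpace U.left] :
    IsLimEt ((ProEtS.eps X).obj U) := by
  haveI : IsConnected (Discrete PUnit.{u + 1}) := IsCofiltered.isConnected _
  refine ⟨Discrete PUnit.{u + 1}, inferInstance, inferInstance, (Functor.const _).obj U,
    { app := fun _ => 𝟙 _, naturality := fun _ _ _ => ?_ },
    fun _ => ‹CompactSpace U.left›, fun _ => ‹QuasiSeparatedSpace U.left›, fun i j f => ?_, ⟨?_⟩⟩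
  · exact (Category.id_comp _).trans ((Category.id_comp _).trans ((ProEtS.eps X).map_id U)).symm
  · exact inferInstanceAs (IsAffineHom (𝟙 U.left))
  · exact IsLimit.ofIsoLimit (isLimitConstCone (Discrete PUnit.{u + 1}) U.left)
      (Cone.ext (Iso.refl _) fun j => by show 𝟙 _ = 𝟙 _ ≫ _; rw [Category.id_comp]; rfl)

section Pres

variable {I : Type u} [SmallCategory I] [IsCofiltered I] (D : I ⥤ X.Etale) {T : X.ProEt}
  (π : (Functor.const I).obj T ⟶ D ⋙ ProEtS.eps X)

/-- the diagram of the preimages of an open of a stage -/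
noncomputable def preDiag (i : I) (W : (D.obj i).left.Opens) : Over i ⥤ X.Etale where
  obj j := mkOpenEt (D.obj j.left) ((D.map j.hom).left ⁻¹ᵁ W)
  map {j k} f := MorphismProperty.Over.homMk
    ((opensDiagram ((D ⋙ ProEtS.eps X) ⋙ sch X) i W).map f) (by
      show Scheme.Hom.resLE _ _ _ _ ≫ _ ≫ (D.obj k.left).hom = _ ≫ (D.obj j.left).hom
      refine (Category.assoc _ _ _).symm.trans ((congrArg (fun m => m ≫ (D.obj k.left).hom) (Scheme.Hom.resLE_comp_ι _ _)).trans ?_)
      exact (Category.assoc _ _ _).trans (congrArg (fun m => _ ≫ m) (MorphismProperty.Over.w (D.map f.left))))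
  map_id j := MorphismProperty.Over.Hom.ext ((opensDiagram ((D ⋙ ProEtS.eps X) ⋙ sch X) i W).map_id j)
  map_comp f g := MorphismProperty.Over.Hom.ext ((opensDiagram ((D ⋙ ProEtS.eps X) ⋙ sch X) i W).map_comp f g)

/-- the inclusion into the stages -/
noncomputable def preDiagι (i : I) (W : (D.obj i).left.Opens) : preDiag D i W ⟶ Over.forget i ⋙ D where
  app j := mkOpenEtHom _ _
  naturality j k f := MorphismProperty.Over.Hom.ext (Scheme.Hom.resLE_comp_ι _ _)

/-- the preimage in the limit -/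
noncomputable abbrev preTop (i : I) (W : (D.obj i).left.Opens) : T.left.Opens := (π.app i).left ⁻¹ᵁ W

/-- the cone over the preimages -/
noncomputable def preCone (i : I) (W : (D.obj i).left.Opens) :
    (Functor.const (Over i)).obj (L27.ProEt.mkOpen T (preTop D π i W)) ⟶ preDiag D i W ⋙ ProEtS.eps X where
  app j := MorphismProperty.Over.homMk
    ((opensCone ((D ⋙ ProEtS.eps X) ⋙ sch X) ((sch X).mapCone (Cone.mk T π)) i W).π.app j) (by
      show Scheme.Hom.resLE _ _ _ _ ≫ _ ≫ (D.obj j.left).hom = _ ≫ T.hom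
      refine (Category.assoc _ _ _).symm.trans ((congrArg (fun m => m ≫ (D.obj j.left).hom) (Scheme.Hom.resLE_comp_ι _ _)).trans ?_)
      exact (Category.assoc _ _ _).trans (congrArg (fun m => _ ≫ m) (MorphismProperty.Over.w (π.app j.left))))
  naturality j k f := MorphismProperty.Over.Hom.ext
    ((opensCone ((D ⋙ ProEtS.eps X) ⋙ sch X) ((sch X).mapCone (Cone.mk T π)) i W).π.naturality f)

theorem preCone_ι (i : I) (W : (D.obj i).left.Opens) (j : Over i) :
    (preCone D π i W).app j ≫ (ProEtS.eps X).map ((preDiagι D i W).app j) =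
      L27.ProEt.mkOpenHom T _ ≫ π.app j.left :=
  MorphismProperty.Over.Hom.ext (Scheme.Hom.resLE_comp_ι _ _)

variable (hl : IsLimit ((sch X).mapCone (Cone.mk T π))) (hc : ∀ i, CompactSpace (D.obj i).left)
  (hq : ∀ i, QuasiSeparatedSpace (D.obj i).left) (ha : ∀ (i j : I) (f : i ⟶ j), IsAffineHom (D.map f).left)

/-- the preimage is the limit of the preimages -/
noncomputable def isLimitPreCone (i : I) (W : (D.obj i).left.Opens) :
    IsLimit ((sch X).mapCone (Cone.mk (L27.ProEt.mkOpen T (preTop D π i W)) (preCone D π i W))) :=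
  isLimitOpensCone ((D ⋙ ProEtS.eps X) ⋙ sch X) ((sch X).mapCone (Cone.mk T π)) hl i W

include ha in
theorem isAffineHom_preDiag (i : I) (W : (D.obj i).left.Opens) {j k : Over i} (f : j ⟶ k) :
    IsAffineHom ((preDiag D i W).map f).left := by
  haveI : ∀ {i j : I} (f : i ⟶ j), IsAffineHom (((D ⋙ ProEtS.eps X) ⋙ sch X).map f) := fun f => ha _ _ f
  exact inferInstanceAs (IsAffineHom ((opensDiagram ((D ⋙ ProEtS.eps X) ⋙ sch X) i W).map f))

include hl hc hq ha

theorem isLimEt_pre (i : I) (W : (D.obj i).left.Opens) (hW : IsCompact (W : Set (D.obj i).left)) :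
    IsLimEt (L27.ProEt.mkOpen T (preTop D π i W)) := by
  refine ⟨Over i, inferInstance, inferInstance, preDiag D i W, preCone D π i W, fun j => ?_, fun j => ?_,
    fun j k f => isAffineHom_preDiag D ha i W f, ⟨isLimitPreCone D π hl i W⟩⟩
  · haveI := ha _ _ j.hom
    exact isCompact_iff_compactSpace.mp (QuasiCompact.isCompact_preimage (f := (D.map j.hom).left) _ W.2 hW)
  · haveI := hq j.left
    exact (isQuasiSeparated_iff_quasiSeparatedSpace _ ((D.map j.hom).left ⁻¹ᵁ W).2).mp (.of_quasiSeparatedSpace _)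

theorem exists_stage_open (V : T.left.Opens) (hV : IsCompact (V : Set T.left)) :
    ∃ (i : I) (W : (D.obj i).left.Opens), IsCompact (W : Set (D.obj i).left) ∧ preTop D π i W = V := by
  haveI : ∀ {i j : I} (f : i ⟶ j), IsAffineHom (((D ⋙ ProEtS.eps X) ⋙ sch X).map f) := fun f => ha _ _ f
  exact exists_preimage_eq _ _ hl V hV

theorem compactSpace_pt : CompactSpace T.left := by
  haveI : ∀ {i j : I} (f : i ⟶ j), IsAffineHom (((D ⋙ ProEtS.eps X) ⋙ sch X).map f) := fun f => ha _ _ f
  haveI : ∀ i, CompactSpace (((D ⋙ ProEtS.eps X) ⋙ sch X).obj i) := hc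
  exact Scheme.compactSpace_of_isLimit _ ((sch X).mapCone (Cone.mk T π)) hl

theorem quasiSeparatedSpace_pt : QuasiSeparatedSpace T.left := by
  haveI : ∀ {i j : I} (f : i ⟶ j), IsAffineHom (((D ⋙ ProEtS.eps X) ⋙ sch X).map f) := fun f => ha _ _ f
  obtain ⟨i⟩ := IsCofiltered.nonempty (C := I)
  haveI : IsAffineHom (((sch X).mapCone (Cone.mk T π)).π.app i) := isAffineHom_π_app _ _ hl i
  haveI : IsAffineHom (π.app i).left := ‹_›
  haveI : QuasiSeparatedSpace ((D ⋙ ProEtS.eps X).obj i).left := hq i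
  exact quasiSeparatedSpace_of_quasiSeparated (π.app i).left

/-- an affine stage gives a good object -/
theorem good_of_affine_stages (U₀ : X.Etale) [IsAffine U₀.left] (a : D ⟶ (Functor.const I).obj U₀)
    (hA : ∀ i, IsAffine (D.obj i).left) (r : T ⟶ (ProEtS.eps X).obj U₀)
    (hr : ∀ i, π.app i ≫ (ProEtS.eps X).map (a.app i) = r) : Good r := by
  haveI : ∀ {i j : I} (f : i ⟶ j), IsAffineHom (((D ⋙ ProEtS.eps X) ⋙ sch X).map f) := fun f => ha _ _ f
  haveI : ∀ i, CompactSpace (((D ⋙ ProEtS.eps X) ⋙ sch X).obj i) := hc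
  haveI : ∀ i, QuasiSeparatedSpace (((D ⋙ ProEtS.eps X) ⋙ sch X).obj i) := hq
  haveI : ∀ i, IsAffine (((D ⋙ ProEtS.eps X) ⋙ sch X).obj i) := hA
  haveI : IsAffine T.left := Scheme.isAffine_of_isLimit _ hl
  obtain ⟨hcol⟩ := nonempty_isColimit_Γ_mapCocone ((D ⋙ ProEtS.eps X) ⋙ sch X) ((sch X).mapCone (Cone.mk T π)) hl
  refine ⟨inferInstance, ?_⟩
  let Dg := ((D ⋙ ProEtS.eps X) ⋙ sch X).op ⋙ Scheme.Γ
  let t : (Functor.const Iᵒᵖ).obj Γ(U₀.left, ⊤) ⟶ Dg :=
    { app := fun i => (a.app i.unop).left.appTop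
      naturality := fun i j f => (Category.id_comp _).trans (by
        show (a.app j.unop).left.appTop = (a.app i.unop).left.appTop ≫ (D.map f.unop).left.appTop
        rw [← Scheme.Hom.comp_appTop]
        refine congrArg Scheme.Hom.appTop ?_
        exact (congrArg (fun m => m.left) ((a.naturality f.unop).trans (Category.comp_id _))).symm) }
  refine ⟨Iᵒᵖ, inferInstance, inferInstance, Dg, t, (Scheme.Γ.mapCocone ((sch X).mapCone (Cone.mk T π)).op).ι,
    hcol, fun i => ⟨?_, ?_⟩⟩
  · haveI : IsAffine (D.obj i.unop).left := hA _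
    haveI : AlgebraicGeometry.Etale (D.obj i.unop).hom := (D.obj i.unop).prop
    haveI : AlgebraicGeometry.Etale U₀.hom := U₀.prop
    haveI : IsAffine (((Functor.const I).obj U₀).obj i.unop).left := ‹IsAffine U₀.left›
    let b : D.obj i.unop ⟶ U₀ := a.app i.unop
    haveI : AlgebraicGeometry.Etale b.left := by
      haveI : AlgebraicGeometry.Etale (b.left ≫ U₀.hom) := by
        rw [MorphismProperty.Over.w b]; exact (D.obj i.unop).prop
      exact AlgebraicGeometry.Etale.of_comp b.left U₀.hom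
    exact HasRingHomProperty.appTop (P := @AlgebraicGeometry.Etale) b.left inferInstance
  · show (a.app i.unop).left.appTop ≫ (π.app i.unop).left.appTop = r.left.appTop
    let a' : (D.obj i.unop).left ⟶ U₀.left := (a.app i.unop).left
    let p' : T.left ⟶ (D.obj i.unop).left := (π.app i.unop).left
    have e : p' ≫ a' = r.left := congrArg (fun m : T ⟶ (ProEtS.eps X).obj U₀ => m.left) (hr i.unop)
    have e2 := congrArg Scheme.Hom.appTop e
    rw [Scheme.Hom.comp_appTop] at e2
    exact e2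

theorem exists_good_cover_opens :
    ∃ (n : ℕ) (A : Fin n → T.left.Opens), (⋃ k, (A k : Set T.left)) = Set.univ ∧ (∀ k, IsCompact (A k : Set T.left)) ∧
      ∀ k, ∃ (U₀ : X.Etale) (_ : IsAffine U₀.left) (r : L27.ProEt.mkOpen T (A k) ⟶ (ProEtS.eps X).obj U₀), Good r := by
  obtain ⟨i⟩ := IsCofiltered.nonempty (C := I)
  haveI := hc i
  obtain ⟨ι, hι, W, hW, hWc⟩ := L27.ProEt.exists_finite_affineOpens_cover (D.obj i).left
  obtain ⟨n, ⟨e⟩⟩ := Finite.exists_equiv_fin ι
  refine ⟨n, fun k => preTop D π i (W (e.symm k)), ?_, fun k => ?_, fun k => ?_⟩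
  · refine Set.eq_univ_of_forall fun x => Set.mem_iUnion.2 ?_
    obtain ⟨l, hl'⟩ := Set.mem_iUnion.1 (hWc.ge (Set.mem_univ ((π.app i).left x)))
    refine ⟨e l, ?_⟩
    show x ∈ preTop D π i (W (e.symm (e l)))
    rw [e.symm_apply_apply]
    exact hl'
  · haveI : ∀ {i j : I} (f : i ⟶ j), IsAffineHom (((D ⋙ ProEtS.eps X) ⋙ sch X).map f) := fun f => ha _ _ f
    let q : T.left ⟶ (D.obj i).left := (π.app i).left
    haveI : IsAffineHom q :=
      isAffineHom_π_app ((D ⋙ ProEtS.eps X) ⋙ sch X) ((sch X).mapCone (Cone.mk T π)) hl i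
    exact ((hW (e.symm k)).preimage q).isCompact
  · let W' := W (e.symm k)
    let U₀ : X.Etale := mkOpenEt (D.obj i) ((D.map (Over.mk (𝟙 i)).hom).left ⁻¹ᵁ W')
    have haff : ∀ j : Over i, IsAffine ((preDiag D i W').obj j).left := fun j => by
      haveI := ha _ _ j.hom
      exact (hW (e.symm k)).preimage (D.map j.hom).left
    haveI : IsAffine U₀.left := haff (Over.mk (𝟙 i))
    let a : preDiag D i W' ⟶ (Functor.const (Over i)).obj U₀ :=
      { app := fun j => (preDiag D i W').map (Over.mkIdTerminal.from j)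
        naturality := fun j l f => by
          refine Eq.trans ?_ (Category.comp_id _).symm
          exact ((preDiag D i W').map_comp f _).symm.trans
            (congrArg (preDiag D i W').map (Over.mkIdTerminal.hom_ext _ _)) }
    refine ⟨U₀, inferInstance, (preCone D π i W').app (Over.mk (𝟙 i)),
      good_of_affine_stages (preDiag D i W') (preCone D π i W') (isLimitPreCone D π hl i W') (fun j => ?_)
        (fun j => ?_) (fun j l f => isAffineHom_preDiag D ha i W' f) U₀ a haff _ (fun j => ?_)⟩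
    · haveI := haff j; infer_instance
    · haveI := haff j; infer_instance
    · exact ((preCone D π i W').naturality (Over.mkIdTerminal.from j)).symm.trans (Category.id_comp _)

end Pres

theorem IsLimEt.compact {T : X.ProEt} (h : IsLimEt T) : CompactSpace T.left := by
  obtain ⟨I, _, _, D, π, h₁, h₂, h₃, ⟨hl⟩⟩ := h
  exact compactSpace_pt D π hl h₁ h₂ h₃

theorem IsLimEt.quasiSeparated {T : X.ProEt} (h : IsLimEt T) : QuasiSeparatedSpace T.left := by
  obtain ⟨I, _, _, D, π, h₁, h₂, h₃, ⟨hl⟩⟩ := h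
  exact quasiSeparatedSpace_pt D π hl h₁ h₂ h₃

theorem IsLimEt.opens {T : X.ProEt} (h : IsLimEt T) (V : T.left.Opens) (hV : IsCompact (V : Set T.left)) :
    IsLimEt (L27.ProEt.mkOpen T V) := by
  obtain ⟨I, _, _, D, π, h₁, h₂, h₃, ⟨hl⟩⟩ := h
  obtain ⟨i, W, hW, rfl⟩ := exists_stage_open D π hl h₁ h₂ h₃ V hV
  exact isLimEt_pre D π hl h₁ h₂ h₃ i W hW

end Groth.L28.ProEt.Cech
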