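import Groth.Agent.L28.ProEt.Cech.BaseChange
import Groth.Agent.L17.AcyclicHomology
import Groth.Agent.L17.ExactThen
import Groth.Agent.L10.SiteRightDerived

/-!
Higher direct images commute with `ε⁻¹`.
-/

set_option autoImplicit false
set_option linter.style.haveILetI false

universe v v' u u'

open CategoryTheory CategoryTheory.Limits AlgebraicGeometry Opposite

set_option backward.isDefEq.respectTransparency.types false

namespace Groth.L28.ProEt.Cech

section General

variable {C : Type u} [Category.{v} C] [Abelian C] {D : Type u'} [Category.{v'} D] [Abelian D]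
  (E : C ⥤ D) [E.Additive] [PreservesFiniteLimits E] (K : CochainComplex C ℕ)

/-- exactness from surjectivity onto the cycles -/
theorem exactAt_of_epi_kernel_lift (n : ℕ)
    (h : Epi (E.map (kernel.lift (K.d (n + 1) (n + 1 + 1)) (K.d n (n + 1)) (K.d_comp_d _ _ _)))) :
    ((E.mapHomologicalComplex _).obj K).ExactAt (n + 1) := by
  haveI : Mono (ShortComplex.mk (kernel.ι (K.d (n + 1) (n + 1 + 1))) (K.d (n + 1) (n + 1 + 1))
    (kernel.condition _)).f := inferInstanceAs (Mono (kernel.ι _))
  have h0 := (ShortComplex.exact_kernel (K.d (n + 1) (n + 1 + 1))).map_of_mono_of_preservesKernel E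
    inferInstance inferInstance
  rw [HomologicalComplex.exactAt_iff' _ n (n + 1) (n + 1 + 1) (by simp) (by simp)]
  let φ : (((E.mapHomologicalComplex _).obj K).sc' n (n + 1) (n + 1 + 1)) ⟶
      (ShortComplex.mk (kernel.ι (K.d (n + 1) (n + 1 + 1))) (K.d (n + 1) (n + 1 + 1)) (kernel.condition _)).map E :=
    { τ₁ := E.map (kernel.lift (K.d (n + 1) (n + 1 + 1)) (K.d n (n + 1)) (K.d_comp_d _ _ _))
      τ₂ := 𝟙 _
      τ₃ := 𝟙 _
      comm₁₂ := by
        show E.map (kernel.lift _ (K.d n (n + 1)) _) ≫ E.map (kernel.ι _) = E.map (K.d n (n + 1)) ≫ 𝟙 _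
        rw [← E.map_comp, kernel.lift_ι, Category.comp_id]
      comm₂₃ := (Category.id_comp _).trans (Category.comp_id _).symm }
  haveI : Epi φ.τ₁ := h
  haveI : IsIso φ.τ₂ := IsIso.id _
  haveI : Mono φ.τ₃ := inferInstanceAs (Mono (𝟙 _))
  exact (ShortComplex.exact_iff_of_epi_of_isIso_of_mono φ).2 h0

end General

variable {X Y : Scheme.{u}} (f : X ⟶ Y) [ProEtS.PCont f]

theorem preservesFiniteLimits_pushP : PreservesFiniteLimits (ProEtS.pushP f) := by
  haveI := (ProEtS.pullPushAdjP f).rightAdjoint_preservesLimits.{0, 0}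
  exact PreservesLimitsOfSize.preservesFiniteLimits _

variable [QuasiCompact f] [QuasiSeparated f]

theorem epi_pushP_map {S : ShortComplex (ProEtS.AbP X)} (hS : S.ShortExact) (h₁ : Acyc S.X₁) (hf₁ : Fl S.X₁) :
    Epi ((ProEtS.pushP f).map S.g) :=
  epi_of_good _ fun _ hW => surjective_qcqs S hS h₁ hf₁ (isLimEt_bcP f hW)

variable [ProEtS.EpsCont X]

theorem acyclic_pushP_injective (I : EtCoh.Ab X) [Injective I] :
    L17.AcyclicHomology.Acyclic (ProEtS.pushP f) ((ProEtS.epsPull X).obj I) := by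
  intro q
  haveI := preservesFiniteLimits_pushP f
  let R := injectiveResolution ((ProEtS.epsPull X).obj I)
  refine IsZero.of_iso ?_ (R.isoRightDerivedObj (ProEtS.pushP f) (q + 1))
  refine (exactAt_of_epi_kernel_lift (ProEtS.pushP f) R.cocomplex q ?_).isZero_homology
  obtain ⟨h, hS⟩ := shortExact_cyc R.cocomplex R.cocomplex_exactAt_succ q
  exact epi_pushP_map f hS
    (acyc_cyc R.cocomplex (fun n => R.injective n) R.cocomplex_exactAt_succ (acyc_cyc_zero R) q)
    (fl_cyc R.cocomplex (fun n => R.injective n) R.cocomplex_exactAt_succ (acyc_cyc_zero R)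
      (fl_of_iso (IsLimit.conePointUniqueUpToIso R.isLimitKernelFork (limit.isLimit _)) (fl_epsPull I)) q)

theorem nonempty_RpushP_epsPull [ProEtS.EpsCont Y] (F : EtCoh.Ab X) (q : ℕ) :
    Nonempty ((ProEtS.RpushP f q).obj ((ProEtS.epsPull X).obj F) ≅
      (ProEtS.epsPull Y).obj ((EtCoh.Rpush f q).obj F)) := by
  letI := HasDerivedCategory.standard (ProEtS.AbP X)
  haveI := preservesFiniteLimits_pushP f
  haveI := preservesFiniteLimits_epsPull X
  haveI := preservesFiniteLimits_epsPull Y
  haveI := (ProEtS.epsAdj X).leftAdjoint_preservesColimits.{0, 0}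
  haveI : PreservesFiniteColimits (ProEtS.epsPull X) := PreservesColimitsOfSize.preservesFiniteColimits _
  haveI := (ProEtS.epsAdj Y).leftAdjoint_preservesColimits.{0, 0}
  haveI : PreservesFiniteColimits (ProEtS.epsPull Y) := PreservesColimitsOfSize.preservesFiniteColimits _
  obtain ⟨e⟩ := Groth.L17.GrothSS.nonempty_rightDerived_exact_comp (ProEtS.epsPull X) (ProEtS.pushP f)
    (fun I hI q hq => by
      obtain ⟨k, rfl⟩ : ∃ k, q = k + 1 := ⟨q - 1, by omega⟩
      exact acyclic_pushP_injective f I k) F q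
  exact ⟨e.symm ≪≫ ((Groth.L10.SiteCoh.rightDerivedCongr (thetaIso f) q).app F).symm ≪≫
    Groth.L10.SiteCoh.rightDerivedCompIso (EtCoh.push f) (ProEtS.epsPull Y) q F⟩

end Groth.L28.ProEt.Cech
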