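import Groth.Agent.L28.ProEt.Cech.Cartan
import Groth.Agent.L00.RDerLES
import Mathlib.Algebra.Homology.DerivedCategory.Ext.MapBijective
import Mathlib.CategoryTheory.Abelian.Injective.Ext
import Mathlib.CategoryTheory.Sites.SheafCohomology.Basic

/-!
Higher direct images to the étale site of inverse images vanish; comparison of cohomology.
-/

set_option autoImplicit false
set_option linter.style.haveILetI false

universe w w' v v' u u'

open CategoryTheory CategoryTheory.Limits AlgebraicGeometry Opposite

set_option backward.isDefEq.respectTransparency.types false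

namespace Groth.L28.ProEt.Cech

section General

open CategoryTheory.Abelian

variable {C : Type u} [Category.{v} C] [Abelian C] {D : Type u'} [Category.{v'} D] [Abelian D]
  (F : C ⥤ D) [F.Additive] [PreservesFiniteLimits F] [PreservesFiniteColimits F]

attribute [local simp] Ext.mapExactFunctor_comp Ext.mapExactFunctor_mk₀ Ext.mapExactFunctor_extClass

attribute [local instance] Ext.subsingleton_of_injective in
theorem mapExt_bijective_of_acyclic [F.Full] [F.Faithful] [HasExt.{w} C] [HasExt.{w'} D] [EnoughInjectives C]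
    (h : ∀ (X I : C) [Injective I] (n : ℕ), Subsingleton (Ext.{w'} (F.obj X) (F.obj I) (n + 1)))
    (X Y : C) (n : ℕ) : Function.Bijective (F.mapExtAddHom X Y n) := by
  induction n generalizing Y with
  | zero => simpa [Ext.mapExactFunctor₀] using ⟨Functor.Faithful.map_injective, Functor.Full.map_surjective⟩
  | succ n hn =>
    let I : InjectivePresentation Y := Classical.arbitrary _
    let S := ShortComplex.mk _ _ (cokernel.condition I.f)
    haveI : Injective S.X₂ := I.injective
    haveI : Subsingleton (Ext.{w'} (F.obj X) ((S.map F).X₂) (n + 1)) := h X S.X₂ n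
    have hS : S.ShortExact := { exact := ShortComplex.exact_cokernel I.f }
    exact AddMonoidHom.bijective_of_surjective_of_bijective_of_right_exact _ _ _ _
      (F.mapExtAddHom X S.X₂ n) (F.mapExtAddHom X S.X₃ n) (F.mapExtAddHom X S.X₁ (n + 1))
      (by cat_disch) (by cat_disch)
      ((ShortComplex.ab_exact_iff_function_exact _).mp
        (Ext.covariant_sequence_exact₃' X hS n (n + 1) rfl))
      ((ShortComplex.ab_exact_iff_function_exact _).mp
        (Ext.covariant_sequence_exact₃' (F.obj X) (hS.map F) n (n + 1) rfl))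
      (hn _).surjective (hn _)
      (fun x₁ ↦ Ext.covariant_sequence_exact₁ _ hS x₁ (by subsingleton) rfl)
      (fun y₁ ↦ Ext.covariant_sequence_exact₁ _ (hS.map F) y₁ (by subsingleton) rfl)

end General

open Groth.L28.ProEt

variable {X : Scheme.{u}}

theorem acyc_of_iso {A B : ProEtS.AbP X} (e : A ≅ B) (h : Acyc A) : Acyc B :=
  fun U₀ _ V U rV rU p hV hU hp => acyclic_of_iso p ((sheafToPresheaf _ _).mapIso e) (h U₀ V U rV rU p hV hU hp)

variable [ProEtS.EpsCont X]

instance additive_epsPull : (ProEtS.epsPull X).Additive := (ProEtS.epsAdj X).left_adjoint_additive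

section Res

variable {I : EtCoh.Ab X} [Injective I] (R : InjectiveResolution ((ProEtS.epsPull X).obj I))

theorem acyc_cyc_zero : Acyc (cyc R.cocomplex 0) :=
  acyc_of_iso (IsLimit.conePointUniqueUpToIso R.isLimitKernelFork (limit.isLimit _)) (acyc_epsPull I)

theorem exists_boundary_res {U₀ : X.Etale} [IsAffine U₀.left] {U : X.ProEt} {rU : U ⟶ (ProEtS.eps X).obj U₀}
    (hU : Good rU) (n : ℕ) (x : (R.cocomplex.X (n + 1)).obj.obj (op U))
    (hx : (R.cocomplex.d (n + 1) (n + 1 + 1)).hom.app (op U) x = 0) :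
    ∃ y, (R.cocomplex.d n (n + 1)).hom.app (op U) y = x :=
  exists_boundary R.cocomplex (fun n => R.injective n) R.cocomplex_exactAt_succ (acyc_cyc_zero R) hU n x hx

theorem epi_epsPush_next (n : ℕ) : Epi ((ProEtS.epsPush X).map (next R.cocomplex n)) := by
  obtain ⟨h, hS⟩ := shortExact_cyc R.cocomplex R.cocomplex_exactAt_succ n
  refine (Sheaf.isLocallySurjective_iff_epi' AddCommGrpCat.{u + 1} _).mp ⟨fun {U} x => ?_⟩
  refine (L27.EtSite.mem_topology_iff _).mpr fun t => ?_
  obtain ⟨W, hW, htW, -⟩ := exists_isAffineOpen_mem_and_subset (U := (⊤ : U.left.Opens))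
    (TopologicalSpace.Opens.mem_top t)
  haveI : AlgebraicGeometry.Etale U.hom := U.prop
  let U' : X.Etale := Scheme.Etale.mk (W.ι ≫ U.hom)
  let g₀ : U' ⟶ U := MorphismProperty.Over.homMk W.ι rfl
  haveI : IsAffine U'.left := hW
  obtain ⟨y, hy⟩ := surjective_sections _ hS
    (acyc_cyc R.cocomplex (fun n => R.injective n) R.cocomplex_exactAt_succ (acyc_cyc_zero R) n)
    (good_id U') (rs (cyc R.cocomplex (n + 1)) ((ProEtS.eps X).map g₀) x)
  exact ⟨U', g₀, ⟨t, htW⟩, ⟨y, hy⟩, rfl⟩

theorem exactAt_epsPush (n : ℕ) :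
    (((ProEtS.epsPush X).mapHomologicalComplex _).obj R.cocomplex).ExactAt (n + 1) := by
  haveI := epi_epsPush_next R n
  let E := ProEtS.epsPush X
  let K := R.cocomplex
  haveI : PreservesFiniteLimits E := by
    haveI := (ProEtS.epsAdj X).rightAdjoint_preservesLimits.{0, 0}
    exact PreservesLimitsOfSize.preservesFiniteLimits _
  haveI : Mono (ShortComplex.mk (kernel.ι (K.d (n + 1) (n + 1 + 1))) (K.d (n + 1) (n + 1 + 1))
    (kernel.condition _)).f := inferInstanceAs (Mono (kernel.ι _))
  have h0 := (ShortComplex.exact_kernel (K.d (n + 1) (n + 1 + 1))).map_of_mono_of_preservesKernel E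
    inferInstance inferInstance
  rw [HomologicalComplex.exactAt_iff' _ n (n + 1) (n + 1 + 1) (by simp) (by simp)]
  let φ : (((E.mapHomologicalComplex _).obj K).sc' n (n + 1) (n + 1 + 1)) ⟶
      (ShortComplex.mk (kernel.ι (K.d (n + 1) (n + 1 + 1))) (K.d (n + 1) (n + 1 + 1)) (kernel.condition _)).map E :=
    { τ₁ := E.map (next K n)
      τ₂ := 𝟙 _
      τ₃ := 𝟙 _
      comm₁₂ := by
        show E.map (next K n) ≫ E.map (kernel.ι _) = E.map (K.d n (n + 1)) ≫ 𝟙 _
        rw [← E.map_comp, kernel.lift_ι, Category.comp_id]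
      comm₂₃ := (Category.id_comp _).trans (Category.comp_id _).symm }
  haveI : Epi φ.τ₁ := inferInstanceAs (Epi (E.map (next K n)))
  haveI : IsIso φ.τ₂ := IsIso.id _
  haveI : Mono φ.τ₃ := inferInstanceAs (Mono (𝟙 _))
  exact (ShortComplex.exact_iff_of_epi_of_isIso_of_mono φ).2 h0

end Res

theorem isZero_RepsPush_injective (I : EtCoh.Ab X) [Injective I] (q : ℕ) :
    IsZero ((ProEtS.RepsPush X (q + 1)).obj ((ProEtS.epsPull X).obj I)) := by
  let R := injectiveResolution ((ProEtS.epsPull X).obj I)
  refine IsZero.of_iso ?_ (R.isoRightDerivedObj (ProEtS.epsPush X) (q + 1))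
  exact (exactAt_epsPush R q).isZero_homology

variable (X) in
theorem shortExact_epsPull {T : ShortComplex (EtCoh.Ab X)} (hT : T.ShortExact) :
    (T.map (ProEtS.epsPull X)).ShortExact := by
  haveI := preservesFiniteLimits_epsPull X
  haveI := (ProEtS.epsAdj X).leftAdjoint_preservesColimits.{0, 0}
  haveI : PreservesFiniteColimits (ProEtS.epsPull X) := PreservesColimitsOfSize.preservesFiniteColimits _
  exact hT.map_of_exact (ProEtS.epsPull X)

theorem isZero_RepsPush (q : ℕ) : ∀ F : EtCoh.Ab X,
    IsZero ((ProEtS.RepsPush X (q + 1)).obj ((ProEtS.epsPull X).obj F)) := by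
  letI := HasDerivedCategory.standard (ProEtS.AbP X)
  induction q with
  | zero =>
    intro F
    let P : InjectivePresentation F := Classical.arbitrary _
    let T := ShortComplex.mk _ _ (cokernel.condition P.f)
    have hT : T.ShortExact := { exact := ShortComplex.exact_cokernel P.f }
    have hT' := shortExact_epsPull X hT
    haveI : Epi (((ProEtS.epsPush X).rightDerived 0).map (T.map (ProEtS.epsPull X)).g) := by
      haveI : PreservesFiniteLimits (ProEtS.epsPush X) := by
        haveI := (ProEtS.epsAdj X).rightAdjoint_preservesLimits.{0, 0}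
        exact PreservesLimitsOfSize.preservesFiniteLimits _
      haveI := isIso_unit_ab X
      haveI : Epi T.g := hT.epi_g
      haveI : Epi ((ProEtS.epsPush X).map (T.map (ProEtS.epsPull X)).g) := by
        have h := ((ProEtS.epsAdj X).unit.naturality T.g)
        haveI hh : Epi ((ProEtS.epsAdj X).unit.app T.X₂ ≫ (ProEtS.epsPush X).map ((ProEtS.epsPull X).map T.g)) := by
          rw [show (ProEtS.epsAdj X).unit.app T.X₂ ≫ (ProEtS.epsPush X).map ((ProEtS.epsPull X).map T.g) =
            T.g ≫ (ProEtS.epsAdj X).unit.app T.X₃ from h.symm]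
          exact epi_comp _ _
        exact @epi_of_epi _ _ _ _ _ ((ProEtS.epsAdj X).unit.app T.X₂) _ hh
      rw [show ((ProEtS.epsPush X).rightDerived 0).map (T.map (ProEtS.epsPull X)).g =
        (ProEtS.epsPush X).rightDerivedZeroIsoSelf.hom.app _ ≫ (ProEtS.epsPush X).map (T.map (ProEtS.epsPull X)).g ≫
          (ProEtS.epsPush X).rightDerivedZeroIsoSelf.inv.app _ from by
        rw [← NatTrans.naturality_assoc, Iso.hom_inv_id_app, Category.comp_id]]
      infer_instance
    exact Groth.L00.RDerLES.isZero_X₁ (ProEtS.epsPush X) hT' 0 (isZero_RepsPush_injective P.J 0)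
  | succ q ih =>
    intro F
    let P : InjectivePresentation F := Classical.arbitrary _
    let T := ShortComplex.mk _ _ (cokernel.condition P.f)
    have hT : T.ShortExact := { exact := ShortComplex.exact_cokernel P.f }
    haveI : Epi (((ProEtS.epsPush X).rightDerived (q + 1)).map (T.map (ProEtS.epsPull X)).g) :=
      ⟨fun _ _ _ => (ih T.X₃).eq_of_src _ _⟩
    exact Groth.L00.RDerLES.isZero_X₁ (ProEtS.epsPush X) (shortExact_epsPull X hT) (q + 1)
      (isZero_RepsPush_injective P.J (q + 1))

open CategoryTheory.Abelian in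
theorem subsingleton_ext (A I : EtCoh.Ab X) [Injective I] (n : ℕ) :
    Subsingleton (Ext.{u + 1} ((ProEtS.epsPull X).obj A) ((ProEtS.epsPull X).obj I) (n + 1)) := by
  let R := injectiveResolution ((ProEtS.epsPull X).obj I)
  let K := R.cocomplex
  haveI := preservesFiniteLimits_epsPull X
  haveI : (ProEtS.epsPull X).PreservesMonomorphisms := inferInstance
  haveI hinj : ∀ m, Injective (K.X m) := R.injective
  haveI : PreservesFiniteLimits (ProEtS.epsPush X) := by
    haveI := (ProEtS.epsAdj X).rightAdjoint_preservesLimits.{0, 0}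
    exact PreservesLimitsOfSize.preservesFiniteLimits _
  obtain ⟨h1, hS1⟩ := shortExact_cyc K R.cocomplex_exactAt_succ n
  haveI := epi_epsPush_next R n
  -- the cycles pushed forward are injective and the sequence splits
  have hinjE : ∀ m, Injective ((ProEtS.epsPush X).obj (cyc K m)) := by
    intro m
    induction m with
    | zero =>
      haveI := isIso_unit_ab X
      exact Injective.of_iso (asIso ((ProEtS.epsAdj X).unit.app I) ≪≫
        (ProEtS.epsPush X).mapIso (IsLimit.conePointUniqueUpToIso R.isLimitKernelFork (limit.isLimit _))) inferInstance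
    | succ m ih =>
      obtain ⟨h, hS⟩ := shortExact_cyc K R.cocomplex_exactAt_succ m
      haveI := epi_epsPush_next R m
      haveI := hS.mono_f
      let U := (ShortComplex.mk (kernel.ι (K.d m (m + 1))) (next K m) h).map (ProEtS.epsPush X)
      haveI : Mono U.f := inferInstanceAs (Mono ((ProEtS.epsPush X).map (kernel.ι (K.d m (m + 1)))))
      haveI : Epi U.g := inferInstanceAs (Epi ((ProEtS.epsPush X).map (next K m)))
      have hU : U.ShortExact :=
        { exact := hS.exact.map_of_mono_of_preservesKernel _ inferInstance inferInstance }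
      haveI : Injective U.X₁ := ih
      let s := hU.splittingOfInjective
      haveI : Injective U.X₂ := Injective.injective_of_adjoint (ProEtS.epsAdj X) (K.X m)
      exact Retract.injective ⟨s.s, U.g, s.s_g⟩
  refine subsingleton_of_forall_eq 0 fun α => ?_
  obtain ⟨f, hf, rfl⟩ := R.extMk_surjective α (n + 1 + 1) rfl
  rw [R.extMk_eq_zero_iff f (n + 1 + 1) rfl hf n rfl]
  haveI := hinjE n
  let U := (ShortComplex.mk (kernel.ι (K.d n (n + 1))) (next K n) h1).map (ProEtS.epsPush X)
  haveI := hS1.mono_f
  haveI : Mono U.f := inferInstanceAs (Mono ((ProEtS.epsPush X).map (kernel.ι (K.d n (n + 1)))))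
  haveI : Epi U.g := inferInstanceAs (Epi ((ProEtS.epsPush X).map (next K n)))
  have hU : U.ShortExact :=
    { exact := hS1.exact.map_of_mono_of_preservesKernel _ inferInstance inferInstance }
  haveI : Injective U.X₁ := hinjE n
  let s := hU.splittingOfInjective
  let φ : A ⟶ (ProEtS.epsPush X).obj (cyc K (n + 1)) :=
    (ProEtS.epsAdj X).homEquiv _ _ (kernel.lift _ f hf)
  refine ⟨((ProEtS.epsAdj X).homEquiv _ _).symm (φ ≫ s.s), ?_⟩
  have h2 : ((ProEtS.epsAdj X).homEquiv _ _).symm (φ ≫ s.s) ≫ next K n = kernel.lift _ f hf := by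
    rw [← Adjunction.homEquiv_naturality_right_symm, Category.assoc]
    refine (congrArg (fun k => ((ProEtS.epsAdj X).homEquiv _ _).symm (φ ≫ k)) s.s_g).trans ?_
    exact (congrArg _ (Category.comp_id φ)).trans (Equiv.symm_apply_apply _ _)
  have h3 := congrArg (fun k => k ≫ kernel.ι (K.d (n + 1) (n + 1 + 1))) h2
  simp only [Category.assoc, kernel.lift_ι] at h3
  exact h3.trans (kernel.lift_ι _ f hf)

variable (X) in
theorem full_epsPull : (ProEtS.epsPull X).Full ∧ (ProEtS.epsPull X).Faithful := by
  haveI := isIso_unit_ab X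
  exact ⟨(ProEtS.epsAdj X).fullyFaithfulLOfIsIsoUnit.full, (ProEtS.epsAdj X).fullyFaithfulLOfIsIsoUnit.faithful⟩

open CategoryTheory.Abelian in
theorem nonempty_ext_equiv (A F : EtCoh.Ab X) (n : ℕ) :
    Nonempty (Ext.{u + 1} A F n ≃+ Ext.{u + 1} ((ProEtS.epsPull X).obj A) ((ProEtS.epsPull X).obj F) n) := by
  haveI := preservesFiniteLimits_epsPull X
  haveI := (ProEtS.epsAdj X).leftAdjoint_preservesColimits.{0, 0}
  haveI : PreservesFiniteColimits (ProEtS.epsPull X) := PreservesColimitsOfSize.preservesFiniteColimits _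
  haveI : (ProEtS.epsPull X).Additive := (ProEtS.epsAdj X).left_adjoint_additive
  haveI := (full_epsPull X).1
  haveI := (full_epsPull X).2
  exact ⟨AddEquiv.ofBijective _ (mapExt_bijective_of_acyclic (ProEtS.epsPull X)
    (fun A I _ m => subsingleton_ext A I m) A F n)⟩

variable (X) in
/-- the constant sheaf pulls back to the constant sheaf -/
theorem nonempty_constant_iso (M : AddCommGrpCat.{u + 1}) :
    Nonempty ((ProEtS.epsPull X).obj ((constantSheaf X.smallEtaleTopology AddCommGrpCat.{u + 1}).obj M) ≅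
      (constantSheaf (Scheme.ProEt.topology X) AddCommGrpCat.{u + 1}).obj M) := by
  let h₁ : IsTerminal (EtCoh.top X) := MorphismProperty.Over.mkIdTerminal _ X
  let h₂ : IsTerminal ((ProEtS.eps X).obj (EtCoh.top X)) := MorphismProperty.Over.mkIdTerminal _ X
  let a := ((constantSheafAdj X.smallEtaleTopology AddCommGrpCat.{u + 1} h₁).comp (ProEtS.epsAdj X))
  let b := (constantSheafAdj (Scheme.ProEt.topology X) AddCommGrpCat.{u + 1} h₂)
  exact ⟨(a.leftAdjointUniq (b.ofNatIsoRight (Iso.refl _))).app M⟩

theorem nonempty_H_equiv (F : EtCoh.Ab X) (i : ℕ) :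
    Nonempty (EtCoh.H X F i ≃+ ProEtS.HP X ((ProEtS.epsPull X).obj F) i) := by
  obtain ⟨e⟩ := nonempty_ext_equiv ((constantSheaf X.smallEtaleTopology AddCommGrpCat.{u + 1}).obj
    (AddCommGrpCat.of (ULift.{u + 1} ℤ))) F i
  obtain ⟨c⟩ := nonempty_constant_iso X (AddCommGrpCat.of (ULift.{u + 1} ℤ))
  exact ⟨e.trans (((CategoryTheory.Abelian.extFunctor.{u + 1} i).mapIso c.op).app
    ((ProEtS.epsPull X).obj F)).symm.addCommGroupIsoToAddEquiv⟩

end Groth.L28.ProEt.Cech
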